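import Groth.Agent.Lib.LG29.Rep

/-!
Products of Grassmannians and the closed subscheme of linked tuples.
-/

set_option autoImplicit false
set_option backward.isDefEq.respectTransparency false
universe u

open TensorProduct Module CategoryTheory Limits AlgebraicGeometry

namespace Groth.Agent.LG29

open GrassLib

variable {R : Type u} [CommRing R] {M : Type u} [AddCommGroup M] [Module R M] {k m : ℕ}
variable {A B : Type u} [CommRing A] [Algebra R A] [CommRing B] [Algebra R B]

variable (R M k) in
/-- all tuples -/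
abbrev allTup (m : ℕ) : ∀ (A : Type u) [CommRing A] [Algebra R A], Set (Fin m → Pt R M k A) :=
  fun _ _ _ => Set.univ

theorem exists_product [IsProper (toBase R M k)] (m : ℕ) :
    ∃ (P : Over (Spec (CommRingCat.of R))), IsProper P.hom ∧ Nonempty (SRep R M k m (allTup R M k m) P) := by
  induction m with
  | zero =>
    refine ⟨Over.mk (𝟙 _), inferInstanceAs (IsProper (𝟙 _)), ⟨⟨fun A => ?_, ?_⟩⟩⟩
    · exact
        { toFun := fun _ => ⟨Fin.elim0, trivial⟩
          invFun := fun _ => Over.homMk (str R A) (Category.comp_id _)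
          left_inv := fun g => Over.OverMorphism.ext ((Category.comp_id _).symm.trans (Over.w g) |>.symm)
          right_inv := fun N => Subtype.ext (funext fun i => i.elim0) }
    · intro A B φ g g' _ i
      exact i.elim0
  | succ m ih =>
    obtain ⟨P, hP, ⟨hR⟩⟩ := ih
    let Q : Over (Spec (CommRingCat.of R)) :=
      Over.mk (pullback.fst P.hom (toBase R M k) ≫ P.hom)
    refine ⟨Q, inferInstanceAs (IsProper (pullback.fst P.hom (toBase R M k) ≫ P.hom)), ⟨?_⟩⟩
    let p1 : Q ⟶ P := Over.homMk (pullback.fst P.hom (toBase R M k)) rfl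
    let p2 : Q ⟶ grOver R M k := Over.homMk (pullback.snd P.hom (toBase R M k)) pullback.condition.symm
    refine ⟨fun A => ?_, ?_⟩
    · exact
        { toFun := fun g => ⟨Fin.cons (ptEquiv A (g ≫ p2)) (hR.e A (g ≫ p1)).1, trivial⟩
          invFun := fun N => Over.homMk (pullback.lift
              ((hR.e A).symm ⟨Fin.tail N.1, trivial⟩).left ((ptEquiv A).symm (N.1 0)).left
              ((Over.w ((hR.e A).symm ⟨Fin.tail N.1, trivial⟩)).trans
                (Over.w ((ptEquiv A).symm (N.1 0))).symm))
            (by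
              show _ ≫ pullback.fst P.hom (toBase R M k) ≫ P.hom = _
              rw [pullback.lift_fst_assoc, Over.w])
          left_inv := fun g => by
            refine Over.OverMorphism.ext (pullback.hom_ext ?_ ?_)
            · refine (pullback.lift_fst _ _ _).trans ?_
              exact congrArg (fun g : Over.mk (str R A) ⟶ P => g.left)
                (((hR.e A).symm_apply_eq).mpr (show _ = hR.e A (g ≫ p1) from
                  Subtype.ext (Fin.tail_cons (α := fun _ : Fin (m + 1) => Pt R M k A) (ptEquiv A (g ≫ p2)) (hR.e A (g ≫ p1)).1)))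
            · refine (pullback.lift_snd _ _ _).trans ?_
              exact congrArg (fun g : Over.mk (str R A) ⟶ grOver R M k => g.left)
                (((ptEquiv A).symm_apply_eq).mpr (show _ = ptEquiv A (g ≫ p2) from Fin.cons_zero (α := fun _ : Fin (m + 1) => Pt R M k A) (ptEquiv A (g ≫ p2)) (hR.e A (g ≫ p1)).1))
          right_inv := fun N => by
            refine Subtype.ext ?_
            conv_rhs => rw [← Fin.cons_self_tail N.1]
            refine (Fin.cons_inj (α := fun _ : Fin (m + 1) => Pt R M k A)).mpr ⟨?_, ?_⟩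
            · refine (congrArg (ptEquiv A) ?_).trans ((ptEquiv A).apply_symm_apply _)
              exact Over.OverMorphism.ext (pullback.lift_snd _ _ _)
            · refine (congrArg (fun g => ((hR.e A) g).1) ?_).trans
                (congrArg Subtype.val ((hR.e A).apply_symm_apply ⟨_, trivial⟩))
              exact Over.OverMorphism.ext (pullback.lift_fst _ _ _) }
    · intro A B φ g g' h i
      refine Fin.cases ?_ ?_ i
      · simp only [Equiv.coe_fn_mk, Fin.cons_zero]
        exact ptEquiv_natural φ.hom _ _ (by rw [Over.comp_left, Over.comp_left, h, Category.assoc])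
      · intro j
        simp only [Equiv.coe_fn_mk, Fin.cons_succ]
        exact hR.natural A B φ _ _ (by simp [h]) j

variable {ι : Type*} (a b : ι → Fin m) (T : ι → M →ₗ[R] M)

/-- the tuples `N` such that `T i` maps `N (a i)` into `N (b i)` -/
def Cond (N : Fin m → Pt R M k A) : Prop :=
  ∀ i, ∀ w ∈ (N (a i)).toSubmodule, (T i).baseChange A w ∈ (N (b i)).toSubmodule

/-- the ideal cutting out `Cond` -/
noncomputable def condIdeal (N : Fin m → Pt R M k A) : Ideal A :=
  Ideal.span {x | ∃ i, ∃ w ∈ (N (a i)).toSubmodule,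
    ∃ f : Module.Dual A ((A ⊗[R] M) ⧸ (N (b i)).toSubmodule),
      x = f ((N (b i)).toSubmodule.mkQ ((T i).baseChange A w))}

lemma cond_gmap_iff (φ : A →ₐ[R] B) (N : Fin m → Pt R M k A) :
    Cond a b T (fun i => gmap φ (N i)) ↔ (condIdeal a b T N).map φ.toRingHom = ⊥ := by
  let _ : Algebra A B := φ.toAlgebra
  have : IsScalarTower R A B := IsScalarTower.of_algebraMap_eq' φ.comp_algebraMap.symm
  have hφ : φ = IsScalarTower.toAlgHom R A B := rfl
  have key : ∀ i w, (T i).baseChange B (tm φ w) ∈ (gmap φ (N (b i))).toSubmodule ↔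
      ∀ f : Module.Dual A ((A ⊗[R] M) ⧸ (N (b i)).toSubmodule),
        φ (f ((N (b i)).toSubmodule.mkQ ((T i).baseChange A w))) = 0 := by
    intro i w
    rw [← tm_baseChange, hφ, gmap_toSubmodule, LinearMap.mem_ker, baseChangeMkQ_tm,
      one_tmul_eq_zero_iff]
    rfl
  rw [condIdeal, Ideal.map_span, Ideal.span_eq_bot]
  constructor
  · rintro h _ ⟨x, ⟨i, w, hw, f, rfl⟩, rfl⟩
    exact (key i w).mp (h i _ (tm_mem_gmap φ hw)) f
  · intro h i w hw
    simp only [gmap_eq_span φ (N (a i))] at hw
    induction hw using Submodule.span_induction with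
    | mem x hx =>
      obtain ⟨v, hv, rfl⟩ := hx
      exact (key i v).mpr fun f => h _ ⟨_, ⟨i, v, hv, f, rfl⟩, rfl⟩
    | zero => simp
    | add p q _ _ hp hq => rw [map_add]; exact add_mem hp hq
    | smul c p _ hp => rw [map_smul]; exact Submodule.smul_mem _ c hp

lemma cond_iff (N : Fin m → Pt R M k A) : Cond a b T N ↔ condIdeal a b T N = ⊥ := by
  have h := cond_gmap_iff a b T (AlgHom.id R A) N
  simp only [gmap_id] at h
  rw [h]
  exact iff_of_eq (congrArg (· = ⊥) (Ideal.map_id _))

lemma map_condIdeal (φ : A →ₐ[R] B) (N : Fin m → Pt R M k A) :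
    (condIdeal a b T N).map φ.toRingHom = condIdeal a b T (fun i => gmap φ (N i)) := by
  have key : ∀ J : Ideal B, (condIdeal a b T N).map φ.toRingHom ≤ J ↔
      condIdeal a b T (fun i => gmap φ (N i)) ≤ J := by
    intro J
    have h1 := cond_gmap_iff a b T ((Ideal.Quotient.mkₐ R J).comp φ) N
    have h2 := cond_gmap_iff a b T (Ideal.Quotient.mkₐ R J) (fun i => gmap φ (N i))
    simp only [gmap_comp] at h1
    rw [h2] at h1
    rw [show ((Ideal.Quotient.mkₐ R J).comp φ).toRingHom =
      (Ideal.Quotient.mkₐ R J).toRingHom.comp φ.toRingHom from rfl, ← Ideal.map_map] at h1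
    have hk : ∀ I : Ideal B, I.map (Ideal.Quotient.mkₐ R J).toRingHom = ⊥ ↔ I ≤ J := fun I =>
      (Ideal.map_eq_bot_iff_le_ker _).trans (by
        rw [show RingHom.ker (Ideal.Quotient.mkₐ R J).toRingHom = J from Ideal.mk_ker])
    rw [hk, hk] at h1
    exact h1.symm
  exact le_antisymm ((key _).mpr le_rfl) ((key _).mp le_rfl)

variable {P : Over (Spec (CommRingCat.of R))} (hP : SRep R M k m (allTup R M k m) P)

/-- the ideals on affine test schemes -/
noncomputable def condFamily : IdealFamily P.left where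
  J {C} h := letI := (exists_algebra_str (R := R) (h ≫ P.hom)).choose
    condIdeal a b T (hP.pt (A := C) h (exists_algebra_str (R := R) (h ≫ P.hom)).choose_spec.symm)
  map_J {C D} h φ := by
    letI := (exists_algebra_str (R := R) (h ≫ P.hom)).choose
    letI := (exists_algebra_str (R := R) ((Spec.map φ ≫ h) ≫ P.hom)).choose
    have hC := (exists_algebra_str (R := R) (h ≫ P.hom)).choose_spec
    have hD := (exists_algebra_str (R := R) ((Spec.map φ ≫ h) ≫ P.hom)).choose_spec
    have hc : φ.hom.comp (algebraMap R C) = algebraMap R D := by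
      have h1 : Spec.map φ ≫ str R C = str R D :=
        ((congrArg (Spec.map φ ≫ ·) hC).trans (Category.assoc _ _ _).symm).trans hD.symm
      rw [str, str, ← Spec.map_comp] at h1
      exact congrArg CommRingCat.Hom.hom (Spec.map_injective h1)
    let χ : C →ₐ[R] D := { φ.hom with commutes' := fun r => RingHom.congr_fun hc r }
    show (condIdeal a b T (hP.pt h hC.symm)).map χ.toRingHom = _
    rw [map_condIdeal]
    exact congrArg (condIdeal a b T) (funext fun i => (hP.pt_comp χ h hC.symm hD.symm i).symm)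

lemma condFamily_eq_bot_iff {A : Type u} [CommRing A] [iA : Algebra R A]
    (g : Spec (CommRingCat.of A) ⟶ P.left) (hg : g ≫ P.hom = str R A) :
    (condFamily a b T hP).J g = ⊥ ↔ Cond a b T (hP.pt g hg) := by
  have h : (exists_algebra_str (R := R) (g ≫ P.hom)).choose = iA := by
    refine Algebra.algebra_ext _ _ fun r => ?_
    have h1 := (exists_algebra_str (R := R) (g ≫ P.hom)).choose_spec.trans hg
    exact RingHom.congr_fun (congrArg CommRingCat.Hom.hom (Spec.map_injective h1)) r
  let Q := Cond a b T (hP.pt g hg)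
  have key : ∀ (i : Algebra R A) (hi : g ≫ P.hom = @str R _ A _ i), i = iA →
      ((letI := i; condIdeal a b T (hP.pt g hi) = ⊥) ↔ Q) := by
    rintro i hi rfl
    exact (cond_iff a b T _).symm
  exact key _ (exists_algebra_str (R := R) (g ≫ P.hom)).choose_spec.symm h

include hP in
/-- the closed subscheme of the tuples satisfying `Cond` -/
theorem exists_closed_cond (S : ∀ (A : Type u) [CommRing A] [Algebra R A], Set (Fin m → Pt R M k A))
    (hS : ∀ (A : Type u) [CommRing A] [Algebra R A] (N : Fin m → Pt R M k A),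
      N ∈ S A ↔ Cond a b T N) [IsProper P.hom] :
    ∃ (X : Over (Spec (CommRingCat.of R))), IsProper X.hom ∧ Nonempty (SRep R M k m S X) := by
  let j := (condFamily a b T hP).idealSheaf.subschemeι
  let X : Over (Spec (CommRingCat.of R)) := Over.mk (j ≫ P.hom)
  have hfac : ∀ (A : CommAlgCat.{u} R) (g : Over.mk (str R A) ⟶ P),
      (∃ h, h ≫ j = g.left) ↔ (hP.e A g).1 ∈ S A := fun A g => by
    rw [hS]
    exact ((condFamily a b T hP).factors_iff g.left).trans
      (condFamily_eq_bot_iff a b T hP g.left (Over.w g))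
  let toP : X ⟶ P := Over.homMk j rfl
  refine ⟨X, inferInstanceAs (IsProper (j ≫ P.hom)), ⟨⟨fun A => ?_, ?_⟩⟩⟩
  · refine Equiv.ofBijective (fun g => ⟨(hP.e A (g ≫ toP)).1, (hfac A (g ≫ toP)).mp ⟨g.left, rfl⟩⟩)
      ⟨fun g g' hgg => ?_, fun N => ?_⟩
    · have h1 : g ≫ toP = g' ≫ toP :=
        (hP.e A).injective (Subtype.ext (congrArg Subtype.val hgg :))
      exact Over.OverMorphism.ext ((cancel_mono j).mp (congrArg CommaMorphism.left h1))
    · obtain ⟨h, hh⟩ := (hfac A ((hP.e A).symm ⟨N.1, trivial⟩)).mpr (by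
        rw [Equiv.apply_symm_apply]; exact N.2)
      refine ⟨Over.homMk h ?_, Subtype.ext ?_⟩
      · show h ≫ j ≫ P.hom = _
        rw [← Category.assoc, hh, Over.w]
      · refine (congrArg (fun g => (hP.e A g).1) ?_).trans
          (congrArg Subtype.val ((hP.e A).apply_symm_apply ⟨N.1, trivial⟩))
        exact Over.OverMorphism.ext hh
  · intro A B φ g g' h i
    exact hP.natural A B φ (g ≫ toP) (g' ≫ toP) (by simp [h]) i

theorem isProper_toBase (d k : ℕ) (hk : k ≤ d) : IsProper (toBase R (Fin d → R) k) := by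
  let hX : GrassLib.Rep R (Fin d → R) k (grOver R (Fin d → R) k) :=
    { e := fun A => ptEquiv A, natural := fun A B φ g g' h => ptEquiv_natural φ.hom g g' h }
  obtain ⟨c, hc, hc'⟩ := hX.exists_plucker (Pi.basisFun R (Fin d)) hk
  show IsProper (grOver R (Fin d → R) k).hom
  rw [← hc']
  infer_instance

theorem exists_linkedGrassmannian (d r n : ℕ) (f g : Fin n → ((Fin d → R) →ₗ[R] (Fin d → R))) :
    ∃ (X : Over (Spec (CommRingCat.of R))), IsProper X.hom ∧
      Nonempty (SRep R (Fin d → R) (d - r) (n + 1)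
        (fun A => W4c1limliniiii.LGPoints R d r n f g A) X) := by
  haveI := isProper_toBase (R := R) d (d - r) (Nat.sub_le d r)
  obtain ⟨P, hP, ⟨hR⟩⟩ := exists_product (R := R) (M := Fin d → R) (k := d - r) (n + 1)
  refine exists_closed_cond (Sum.elim Fin.castSucc Fin.succ) (Sum.elim Fin.succ Fin.castSucc)
    (Sum.elim f g) hR _ fun A _ _ N => ?_
  constructor
  · rintro h (i | i) w hw
    · exact (h i).1 ⟨w, hw, rfl⟩
    · exact (h i).2 ⟨w, hw, rfl⟩
  · intro h i
    exact ⟨by rintro _ ⟨w, hw, rfl⟩; exact h (Sum.inl i) w hw,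
      by rintro _ ⟨w, hw, rfl⟩; exact h (Sum.inr i) w hw⟩

end Groth.Agent.LG29
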