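import Mathlib

/-!
Morphisms and isomorphisms of schemes detected by affine points.
-/

set_option autoImplicit false
set_option backward.isDefEq.respectTransparency false
universe u

open CategoryTheory Limits AlgebraicGeometry

namespace Groth.Agent.LG29

variable {X Y : Scheme.{u}}

/-- a natural assignment on affine points comes from a morphism -/
theorem exists_glue (Φ : ∀ {C : CommRingCat.{u}}, (Spec C ⟶ Y) → (Spec C ⟶ X))
    (hΦ : ∀ {C D : CommRingCat.{u}} (h : Spec C ⟶ Y) (φ : C ⟶ D),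
      Φ (Spec.map φ ≫ h) = Spec.map φ ≫ Φ h) :
    ∃ ψ : Y ⟶ X, ∀ {C : CommRingCat.{u}} (h : Spec C ⟶ Y), h ≫ ψ = Φ h := by
  have key : ∀ {C D : CommRingCat.{u}} (a : Spec D ⟶ Spec C) (h : Spec C ⟶ Y),
      Φ (a ≫ h) = a ≫ Φ h := fun a h => by rw [← Spec.map_preimage a, hΦ]
  let 𝒰 := Y.affineCover
  have hagree : ∀ i j, pullback.fst (𝒰.f i) (𝒰.f j) ≫ Φ (𝒰.f i) =
      pullback.snd _ _ ≫ Φ (𝒰.f j) := fun i j =>
    (pullback (𝒰.f i) (𝒰.f j)).affineCover.hom_ext _ _ fun m => by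
      rw [← Category.assoc, ← Category.assoc]
      refine (key _ _).symm.trans ((congrArg Φ ?_).trans (key _ _))
      rw [Category.assoc, Category.assoc, pullback.condition]
  refine ⟨𝒰.glueMorphisms (fun i => Φ (𝒰.f i)) hagree, fun {C} h => ?_⟩
  refine Scheme.Cover.hom_ext (𝒰.pullback₁ h) _ _ fun i => ?_
  refine (pullback h (𝒰.f i)).affineCover.hom_ext _ _ fun m => ?_
  show _ ≫ pullback.fst h (𝒰.f i) ≫ h ≫ _ = _ ≫ pullback.fst h (𝒰.f i) ≫ Φ h
  rw [pullback.condition_assoc, Scheme.Cover.ι_glueMorphisms, ← Category.assoc, ← Category.assoc]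
  refine (key _ _).symm.trans ((congrArg Φ ?_).trans (key _ _))
  rw [Category.assoc, Category.assoc, pullback.condition]

/-- morphisms agreeing on affine points are equal -/
theorem hom_ext_points {ψ ψ' : Y ⟶ X}
    (h : ∀ (C : CommRingCat.{u}) (g : Spec C ⟶ Y), g ≫ ψ = g ≫ ψ') : ψ = ψ' :=
  Y.affineCover.hom_ext _ _ fun _ => h _ _

/-- a morphism bijective on affine points is an isomorphism -/
theorem isIso_of_bijective (ψ : Y ⟶ X)
    (hinj : ∀ (C : CommRingCat.{u}) (g g' : Spec C ⟶ Y), g ≫ ψ = g' ≫ ψ → g = g')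
    (hsurj : ∀ (C : CommRingCat.{u}) (h : Spec C ⟶ X), ∃ g, g ≫ ψ = h) : IsIso ψ := by
  choose l hl using hsurj
  obtain ⟨inv, hinv⟩ := exists_glue (Y := X) (X := Y) (fun {C} h => l C h) (fun {C D} h φ =>
    hinj D _ _ (by rw [hl, Category.assoc, hl]))
  refine ⟨inv, hom_ext_points fun C g => ?_, hom_ext_points fun C g => ?_⟩
  · rw [← Category.assoc, hinv, Category.comp_id]
    exact hinj C _ _ (hl C _)
  · rw [← Category.assoc, hinv, hl, Category.comp_id]

/-- a morphism inducing bijections between affine points and affine points in an open subset -/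
theorem isOpenImmersion_of_bijective (ψ : Y ⟶ X) (O : X.Opens) (hrange : Set.range ψ ⊆ O)
    (hinj : ∀ (C : CommRingCat.{u}) (g g' : Spec C ⟶ Y), g ≫ ψ = g' ≫ ψ → g = g')
    (hsurj : ∀ (C : CommRingCat.{u}) (h : Spec C ⟶ X), Set.range h ⊆ O → ∃ g, g ≫ ψ = h) :
    IsOpenImmersion ψ ∧ Set.range ψ = O := by
  have hsub : Set.range ψ ⊆ Set.range O.ι := by rw [O.range_ι]; exact hrange
  let ψ' := IsOpenImmersion.lift O.ι ψ hsub
  have hψ' : ψ' ≫ O.ι = ψ := IsOpenImmersion.lift_fac _ _ _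
  haveI : IsIso ψ' := by
    refine isIso_of_bijective ψ' (fun C g g' hg => hinj C g g' ?_) (fun C h => ?_)
    · rw [← hψ', ← Category.assoc, hg, Category.assoc]
    · have hh : Set.range (h ≫ O.ι) ⊆ O := by
        rintro _ ⟨x, rfl⟩
        rw [Scheme.Hom.comp_apply]
        exact (h x).2
      obtain ⟨g, hg⟩ := hsurj C (h ≫ O.ι) hh
      refine ⟨g, (cancel_mono O.ι).mp ?_⟩
      rw [Category.assoc, hψ', hg]
  refine ⟨hψ' ▸ inferInstance, ?_⟩
  rw [← hψ', ← O.range_ι]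
  refine Set.Subset.antisymm ?_ ?_
  · rintro _ ⟨x, rfl⟩
    exact ⟨ψ' x, (Scheme.Hom.comp_apply _ _ _).symm⟩
  · rintro _ ⟨x, rfl⟩
    refine ⟨inv ψ' x, ?_⟩
    rw [← Scheme.Hom.comp_apply, IsIso.inv_hom_id_assoc]

end Groth.Agent.LG29
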