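import Groth.Agent.Lib.LG29.Lin

/-!
Generators adapted to a linked tuple of subspaces over a field, and its two deformations.
-/

namespace Groth.Agent.LG29

open Module

variable {K E : Type*} [Field K] [AddCommGroup E] [Module K E] [FiniteDimensional K E]
variable {F G : ℕ → E →ₗ[K] E} {n r : ℕ} {V : ℕ → Submodule K E}

theorem sum_range_ite_le (P : ℕ → ℕ) {N m : ℕ} (h : m < N) :
    ∑ i ∈ Finset.range N, (if i ≤ m then P i else 0) = ∑ i ∈ Finset.range (m + 1), P i := by
  rw [← Finset.sum_filter]
  refine Finset.sum_congr (Finset.ext fun i => ?_) fun _ _ => rfl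
  simp only [Finset.mem_filter, Finset.mem_range]
  omega

theorem finrank_sup_of_disjoint {S T : Submodule K E} (h : Disjoint S T) :
    finrank K ↥(S ⊔ T) = finrank K S + finrank K T := by
  have := Submodule.finrank_sup_add_finrank_inf_eq S T
  rw [h.eq_bot, finrank_bot] at this
  omega

theorem exists_adapted (h : Hyp F G n) (hV : Linked F G n V)
    (hr : ∀ i, i ≤ n → finrank K (V i) = r) (Sp : ℕ → Set E) (hSp : ∀ i, i ≤ n → Sp i ⊆ V i)
    (hspan : ∀ i, i ≤ n → V i ≤ Submodule.span K (Sp i)) :
    ∃ (ι : Type) (_ : Fintype ι) (lA lB : ι → ℕ) (w0 wA wB : ℕ → ι → E) (eA0 eA1 eB0 eB1 : ι → E),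
      Fintype.card ι = r ∧
      (∀ i, i ≤ n → V i = Submodule.span K (Set.range (w0 i))) ∧
      Curve F G n lA w0 wA eA0 eA1 ∧ Curve F G n lB w0 wB eB0 eB1 ∧
      (∀ i, i < n → Fintype.card {x // lA x ≤ i} = finrank K ((V i).map (F i)) ∧
        Fintype.card {x // lB x ≤ i} + finrank K ((V (i + 1)).map (G i)) = r) ∧
      (Exact F G n V → ∀ x, eA0 x ∈ Sp (lA x) ∧
        ∀ i, phi F G (lA x) i (eA0 x) = w0 i x) := by
  classical
  let a : ℕ → ℕ := fun i => finrank K ((V i).map (F i))
  let b : ℕ → ℕ := fun i => finrank K ((V (i + 1)).map (G i))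
  let δ : ℕ → ℕ := fun i => r - a i - b i
  let Lk : ℕ → Submodule K E := fun i => if i = 0 then ⊥ else LinearMap.ker (G (i - 1)) ⊓ V i
  let Rk : ℕ → Submodule K E := fun i => if i < n then LinearMap.ker (F i) ⊓ V i else ⊥
  have hab : ∀ i, i < n → a i + b i ≤ r := fun i hi => h.add_le hV hr hi
  have hδ : ∀ i, i < n → a i + b i + δ i = r := fun i hi => by
    have := hab i hi
    show a i + b i + (r - a i - b i) = r
    omega
  have hLk0 : Lk 0 = ⊥ := if_pos rfl
  have hLkS : ∀ i, Lk (i + 1) = LinearMap.ker (G i) ⊓ V (i + 1) := fun i => if_neg (Nat.succ_ne_zero i)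
  have hRk1 : ∀ i, i < n → Rk i = LinearMap.ker (F i) ⊓ V i := fun i hi => if_pos hi
  have hRk0 : ∀ i, ¬ i < n → Rk i = ⊥ := fun i hi => if_neg hi
  have hA : ∀ i, i < n → a i + finrank K (Rk i) = r := fun i hi => by
    rw [hRk1 i hi]
    exact (finrank_map_add_ker (F i) (V i)).trans (hr i hi.le)
  have hB : ∀ i, i < n → b i + finrank K (Lk (i + 1)) = r := fun i hi => by
    rw [hLkS i]
    exact (finrank_map_add_ker (G i) (V (i + 1))).trans (hr (i + 1) hi)
  have hLk_le : ∀ i, Lk i ≤ V i := fun i => by simp only [Lk]; split_ifs <;> simp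
  have hRk_le : ∀ i, Rk i ≤ V i := fun i => by simp only [Rk]; split_ifs <;> simp
  have hdisj : ∀ i, i ≤ n → Disjoint (Lk i) (Rk i) := by
    intro i hi
    simp only [Lk, Rk]
    split_ifs with h0 hn hn
    · exact disjoint_bot_left
    · exact disjoint_bot_left
    · obtain ⟨j, rfl⟩ := Nat.exists_eq_succ_of_ne_zero h0
      rw [Nat.succ_eq_add_one, Nat.add_sub_cancel, h.kerG j (by omega)]
      exact (h.disjF j hn).mono inf_le_left inf_le_left
    · exact disjoint_bot_right
  let P : ℕ → ℕ := fun i => r - (finrank K (Lk i) + finrank K (Rk i))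
  have hdim : ∀ i, i ≤ n → finrank K ↥(Lk i ⊔ Rk i) + P i = finrank K (V i) := fun i hi => by
    have h1 := finrank_sup_of_disjoint (hdisj i hi)
    have h2 := Submodule.finrank_mono (sup_le (hLk_le i) (hRk_le i))
    rw [hr i hi] at h2 ⊢
    simp only [P]
    omega
  have hp : ∀ i : Fin (n + 1), ∃ v : Fin (P i) → E,
      (∀ x, v x ∈ Sp i) ∧ Lk i ⊔ Rk i ⊔ Submodule.span K (Set.range v) = V i := fun i =>
    exists_completion (sup_le (hLk_le i) (hRk_le i)) (hSp i (Nat.le_of_lt_succ i.2))
      ((hspan i (Nat.le_of_lt_succ i.2)).trans le_sup_right) (hdim i (Nat.le_of_lt_succ i.2))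
  choose p hpSp hpV using hp
  have hu : ∀ j : Fin n, ∃ u : Fin (δ j) → E, (∀ x, F j (u x) = 0 ∧ u x ∈ V j) ∧
      (V (j + 1)).map (G j) ⊔ Submodule.span K (Set.range u) = Rk j := by
    intro j
    have hle : (V ((j : ℕ) + 1)).map (G j) ≤ Rk j := by
      simp only [Rk, if_pos j.2]; exact h.map_G_le hV j.2
    obtain ⟨u, hu, hu'⟩ := exists_completion hle (subset_refl _)
      (by rw [Submodule.span_eq]; exact le_sup_right) (m := δ j) (by
        have := hA j j.2; have := hab j j.2
        show b j + δ j = _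
        simp only [δ]; omega)
    refine ⟨u, fun x => ?_, hu'⟩
    have := hu x
    simp only [Rk, if_pos j.2, SetLike.mem_coe, Submodule.mem_inf, LinearMap.mem_ker] at this
    exact this
  choose u hu huR using hu
  have hu' : ∀ j : Fin n, ∃ u' : Fin (δ j) → E, (∀ x, G j (u' x) = 0 ∧ u' x ∈ V (j + 1)) ∧
      (V j).map (F j) ⊔ Submodule.span K (Set.range u') = Lk (j + 1) := by
    intro j
    have hle : (V (j : ℕ)).map (F j) ≤ Lk (j + 1) := by
      simp only [Lk, if_neg (Nat.succ_ne_zero _), Nat.add_sub_cancel]; exact h.map_F_le hV j.2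
    obtain ⟨u, hu, hu'⟩ := exists_completion hle (subset_refl _)
      (by rw [Submodule.span_eq]; exact le_sup_right) (m := δ j) (by
        have := hB j j.2; have := hab j j.2
        show a j + δ j = _
        simp only [δ]; omega)
    refine ⟨u, fun x => ?_, hu'⟩
    have := hu x
    simp only [Lk, if_neg (Nat.succ_ne_zero _), Nat.add_sub_cancel, SetLike.mem_coe,
      Submodule.mem_inf, LinearMap.mem_ker] at this
    exact this
  choose u' hu' huL using hu'
  have hz : ∀ (j : Fin n) (x : Fin (δ j)), ∃ z, G j z = u j x := fun j x => by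
    have hm := LinearMap.mem_ker.mpr (hu j x).1
    rwa [h.kerF j j.2, LinearMap.mem_range] at hm
  choose z hz using hz
  have hz' : ∀ (j : Fin n) (x : Fin (δ j)), ∃ z, F j z = u' j x := fun j x => by
    have hm := LinearMap.mem_ker.mpr (hu' j x).1
    rwa [h.kerG j j.2, LinearMap.mem_range] at hm
  choose z' hz' using hz'
  let ι := (Σ i : Fin (n + 1), Fin (P i)) ⊕ (Σ j : Fin n, Fin (δ j))
  let w0 : ℕ → ι → E := fun i => Sum.elim (fun x => phi F G x.1 i (p x.1 x.2))
    (fun x => if i ≤ x.1 then phi F G x.1 i (u x.1 x.2) else phi F G (x.1 + 1) i (u' x.1 x.2))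
  let wA : ℕ → ι → E := fun i => Sum.elim (fun _ => 0)
    (fun x => if i ≤ x.1 then 0 else phi F G (x.1 + 1) i (z x.1 x.2))
  let wB : ℕ → ι → E := fun i => Sum.elim (fun _ => 0)
    (fun x => if i ≤ x.1 then phi F G x.1 i (z' x.1 x.2) else 0)
  let lA : ι → ℕ := Sum.elim (fun x => x.1) (fun x => x.1 + 1)
  let lB : ι → ℕ := Sum.elim (fun x => x.1) (fun x => x.1)
  -- counting
  have hacc : ∀ m, m ≤ n → ∑ i ∈ Finset.range (m + 1), P i + ∑ j ∈ Finset.range m, δ j =
      if m < n then a m else r := by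
    intro m hm
    induction m with
    | zero =>
      simp only [zero_add, Finset.sum_range_one, Finset.sum_range_zero, add_zero]
      have h3 := hdim 0 (Nat.zero_le n)
      rw [hLk0, bot_sup_eq, hr 0 (Nat.zero_le n)] at h3
      split_ifs with h0
      · have := hA 0 h0; omega
      · rw [hRk0 0 h0, finrank_bot] at h3; omega
    | succ m ih =>
      have := ih (by omega)
      rw [if_pos (by omega)] at this
      rw [Finset.sum_range_succ, Finset.sum_range_succ δ]
      have h1 := hB m (by omega)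
      have h2 := hab m (by omega)
      have h3 := hdim (m + 1) hm
      rw [hr _ hm, finrank_sup_of_disjoint (hdisj _ hm)] at h3
      split_ifs with h4
      · have := hA (m + 1) h4
        have := hδ m (by omega)
        omega
      · have : finrank K (Rk (m + 1)) = 0 := by rw [hRk0 _ h4, finrank_bot]
        have := hδ m (by omega)
        omega
  have hcardι : Fintype.card ι = r := by
    have := hacc n le_rfl
    rw [if_neg (lt_irrefl n)] at this
    simp only [ι, Fintype.card_sum, Fintype.card_sigma, Fintype.card_fin]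
    rw [Fin.sum_univ_eq_sum_range P, Fin.sum_univ_eq_sum_range δ, this]
  have hcount : ∀ i, i < n → Fintype.card {x // lA x ≤ i} = a i ∧
      Fintype.card {x // lB x ≤ i} + b i = r := by
    intro i hi
    have h1 := hacc i hi.le
    rw [if_pos hi] at h1
    have key : ∀ (q : ι → Prop) [DecidablePred q],
        Fintype.card {x // q x} = ∑ x, if q x then 1 else 0 := fun q _ => by
      rw [Fintype.card_subtype, Finset.card_filter]
    constructor
    · rw [key, Fintype.sum_sum_type, Fintype.sum_sigma, Fintype.sum_sigma]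
      show (∑ l : Fin (n + 1), ∑ _x : Fin (P l), if (l : ℕ) ≤ i then 1 else 0) +
        (∑ l : Fin n, ∑ _x : Fin (δ l), if (l : ℕ) + 1 ≤ i then 1 else 0) = a i
      simp only [Finset.sum_const, Finset.card_univ,
        Fintype.card_fin, smul_eq_mul, mul_ite, mul_one, mul_zero]
      rw [Fin.sum_univ_eq_sum_range (fun l => if l ≤ i then P l else 0),
        sum_range_ite_le P (by omega), Fin.sum_univ_eq_sum_range (fun l => if l + 1 ≤ i then δ l else 0),
        ← Finset.sum_filter, show (Finset.range n).filter (fun l => l + 1 ≤ i) = Finset.range i by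
          ext l; simp only [Finset.mem_filter, Finset.mem_range]; omega]
      exact h1
    · rw [key, Fintype.sum_sum_type, Fintype.sum_sigma, Fintype.sum_sigma]
      show (∑ l : Fin (n + 1), ∑ _x : Fin (P l), if (l : ℕ) ≤ i then 1 else 0) +
        (∑ l : Fin n, ∑ _x : Fin (δ l), if (l : ℕ) ≤ i then 1 else 0) + b i = r
      simp only [Finset.sum_const, Finset.card_univ,
        Fintype.card_fin, smul_eq_mul, mul_ite, mul_one, mul_zero]
      rw [Fin.sum_univ_eq_sum_range (fun l => if l ≤ i then P l else 0),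
        sum_range_ite_le P (by omega), Fin.sum_univ_eq_sum_range (fun l => if l ≤ i then δ l else 0),
        sum_range_ite_le δ hi, Finset.sum_range_succ δ]
      have := hab i hi
      have := hδ i hi
      omega
  -- the curves
  have hstep : ∀ i, i < n → ∀ x : ι,
      (Step (F i) (w0 i x) (wA i x) (w0 (i + 1) x) (wA (i + 1) x) ∧
        Step (G i) (w0 (i + 1) x) (wA (i + 1) x) (w0 i x) (wA i x)) ∧
      (Step (F i) (w0 i x) (wB i x) (w0 (i + 1) x) (wB (i + 1) x) ∧
        Step (G i) (w0 (i + 1) x) (wB (i + 1) x) (w0 i x) (wB i x)) := by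
    intro i hi x
    rcases x with ⟨l, x⟩ | ⟨j, x⟩
    · have h1 := step_phi_F (j := (l : ℕ)) h hi (p l x) 0
      have h2 := step_phi_G (j := (l : ℕ)) h hi (p l x) 0
      simp only [map_zero] at h1 h2
      exact ⟨⟨h1, h2⟩, h1, h2⟩
    · exact ⟨step_pairA h (hu j x).1 (hu' j x).1 (hz j x) hi,
        step_pairB h (hu j x).1 (hu' j x).1 (hz' j x) hi⟩
  have hcA : Curve F G n lA w0 wA
      (Sum.elim (fun x => p x.1 x.2) (fun x => u' x.1 x.2))
      (Sum.elim (fun _ => 0) (fun x => z x.1 x.2)) := by
    refine ⟨?_, fun i hi x => (hstep i hi x).1.1, fun i hi x => (hstep i hi x).1.2, ?_⟩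
    · rintro (⟨l, x⟩ | ⟨j, x⟩)
      · exact Nat.le_of_lt_succ l.2
      · exact j.2
    · rintro i - (⟨l, x⟩ | ⟨j, x⟩)
      · left; simp [lA, w0, wA]
      · simp only [lA, w0, wA, Sum.elim_inr]
        rcases le_or_gt i (j : ℕ) with hij | hij
        · right
          rw [if_pos hij, if_pos hij, ← phi_comp_left F G hij, LinearMap.comp_apply,
            LinearMap.comp_apply, (hu' j x).1, map_zero, hz]
          exact ⟨rfl, rfl, rfl⟩
        · left
          rw [if_neg (by omega), if_neg (by omega)]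
          exact ⟨rfl, rfl⟩
  have hcB : Curve F G n lB w0 wB
      (Sum.elim (fun x => p x.1 x.2) (fun x => u x.1 x.2))
      (Sum.elim (fun _ => 0) (fun x => z' x.1 x.2)) := by
    refine ⟨?_, fun i hi x => (hstep i hi x).2.1, fun i hi x => (hstep i hi x).2.2, ?_⟩
    · rintro (⟨l, x⟩ | ⟨j, x⟩)
      · exact Nat.le_of_lt_succ l.2
      · exact j.2.le
    · rintro i - (⟨l, x⟩ | ⟨j, x⟩)
      · left; simp [lB, w0, wB]
      · simp only [lB, w0, wB, Sum.elim_inr]
        rcases le_or_gt i (j : ℕ) with hij | hij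
        · left
          rw [if_pos hij, if_pos hij]
          exact ⟨rfl, rfl⟩
        · right
          rw [if_neg (by omega), if_neg (by omega), ← phi_comp_right F G hij, LinearMap.comp_apply,
            LinearMap.comp_apply, (hu j x).1, map_zero, hz']
          exact ⟨rfl, rfl, rfl⟩
  refine ⟨ι, inferInstance, lA, lB, w0, wA, wB, _, _, _, _, hcardι, ?_, hcA, hcB, hcount, ?_⟩
  · -- generation
    let S : ℕ → Submodule K E := fun i => Submodule.span K (Set.range (w0 i))
    have hmapF : ∀ i, i < n → (S i).map (F i) ≤ S (i + 1) := fun i hi => by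
      rw [Submodule.map_span_le]
      rintro _ ⟨x, rfl⟩
      rcases (hstep i hi x).1.1 with ⟨e, -⟩ | ⟨e, -⟩ | ⟨e, -⟩ <;> rw [e]
      · exact zero_mem _
      · exact Submodule.subset_span ⟨x, rfl⟩
      · exact zero_mem _
    have hmapG : ∀ i, i < n → (S (i + 1)).map (G i) ≤ S i := fun i hi => by
      rw [Submodule.map_span_le]
      rintro _ ⟨x, rfl⟩
      rcases (hstep i hi x).1.2 with ⟨e, -⟩ | ⟨e, -⟩ | ⟨e, -⟩ <;> rw [e]
      · exact zero_mem _
      · exact Submodule.subset_span ⟨x, rfl⟩
      · exact zero_mem _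
    have hpS : ∀ i : Fin (n + 1), Submodule.span K (Set.range (p i)) ≤ S i := fun i => by
      rw [Submodule.span_le]
      rintro _ ⟨x, rfl⟩
      exact Submodule.subset_span ⟨Sum.inl ⟨i, x⟩, by simp [w0]⟩
    have huS : ∀ j : Fin n, Submodule.span K (Set.range (u j)) ≤ S j := fun j => by
      rw [Submodule.span_le]
      rintro _ ⟨x, rfl⟩
      exact Submodule.subset_span ⟨Sum.inr ⟨j, x⟩, by simp [w0]⟩
    have hu'S : ∀ j : Fin n, Submodule.span K (Set.range (u' j)) ≤ S (j + 1) := fun j => by
      rw [Submodule.span_le]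
      rintro _ ⟨x, rfl⟩
      exact Submodule.subset_span ⟨Sum.inr ⟨j, x⟩, by simp [w0]⟩
    have hL : ∀ i, i ≤ n → Lk i ≤ S i := by
      intro i hi
      induction i with
      | zero => simp [Lk]
      | succ i ih =>
        rw [← huL ⟨i, hi⟩]
        refine sup_le ?_ (hu'S ⟨i, hi⟩)
        show (V i).map (F i) ≤ S (i + 1)
        rw [← hpV ⟨i, by omega⟩, Submodule.map_sup, Submodule.map_sup]
        refine sup_le (sup_le ((Submodule.map_mono (ih (by omega))).trans (hmapF i hi)) ?_)
          ((Submodule.map_mono (hpS ⟨i, by omega⟩)).trans (hmapF i hi))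
        rintro _ ⟨v, hv, rfl⟩
        simp only [Rk, if_pos (show i < n from hi), SetLike.mem_coe, Submodule.mem_inf,
          LinearMap.mem_ker] at hv
        rw [hv.1]; exact zero_mem _
    have hR : ∀ t i, i + t = n → Rk i ≤ S i := by
      intro t
      induction t with
      | zero => intro i hi; simp [Rk, show ¬ i < n by omega]
      | succ t ih =>
        intro i hi
        rw [← huR ⟨i, by omega⟩]
        refine sup_le ?_ (huS ⟨i, by omega⟩)
        show (V (i + 1)).map (G i) ≤ S i
        rw [← hpV ⟨i + 1, by omega⟩, Submodule.map_sup, Submodule.map_sup]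
        refine sup_le (sup_le ?_ ((Submodule.map_mono (ih (i + 1) (by omega))).trans (hmapG i (by omega))))
          ((Submodule.map_mono (hpS ⟨i + 1, by omega⟩)).trans (hmapG i (by omega)))
        rintro _ ⟨v, hv, rfl⟩
        simp only [Lk, if_neg (Nat.succ_ne_zero i), Nat.add_sub_cancel, SetLike.mem_coe,
          Submodule.mem_inf, LinearMap.mem_ker] at hv
        rw [hv.1]; exact zero_mem _
    intro i hi
    refine le_antisymm ?_ (Submodule.span_le.mpr ?_)
    · rw [← hpV ⟨i, by omega⟩]
      exact sup_le (sup_le (hL i hi) (hR (n - i) i (by omega))) (hpS ⟨i, by omega⟩)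
    · rintro _ ⟨(⟨l, x⟩ | ⟨j, x⟩), rfl⟩
      · exact hV.phi_mem F G (Nat.le_of_lt_succ l.2) hi (hSp l (Nat.le_of_lt_succ l.2) (hpSp l x))
      · simp only [w0, Sum.elim_inr]
        split_ifs
        · exact hV.phi_mem F G j.2.le hi (hu j x).2
        · exact hV.phi_mem F G j.2 hi (hu' j x).2
  · intro hex
    rintro (⟨l, x⟩ | ⟨j, x⟩)
    · exact ⟨hpSp l x, fun i => rfl⟩
    · have := (h.exact_iff hV hr).mp hex j j.2
      have hδ : δ j = 0 := by simp only [δ, a, b]; omega
      exact absurd x.2 (by omega)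

end Groth.Agent.LG29
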