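import Mathlib

/-!
Compositions along a chain of modules linked by maps forward and backward, and base change of
these maps.
-/

namespace Groth.Agent.LG29

open TensorProduct

section

variable {A E : Type*} [CommRing A] [AddCommGroup E] [Module A E] (F G : ℕ → E →ₗ[A] E)

/-- the composite of `t` maps forward starting at `j` -/
def up (j : ℕ) : ℕ → E →ₗ[A] E
  | 0 => LinearMap.id
  | t + 1 => F (j + t) ∘ₗ up j t

/-- the composite of `t` maps backward starting at `j` -/
def down (j : ℕ) : ℕ → E →ₗ[A] E
  | 0 => LinearMap.id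
  | t + 1 => G (j - (t + 1)) ∘ₗ down j t

/-- the composite from the `j`-th copy to the `i`-th one -/
def phi (j i : ℕ) : E →ₗ[A] E :=
  if j ≤ i then up F j (i - j) else down G j (j - i)

@[simp] lemma phi_self (j : ℕ) : phi F G j j = LinearMap.id := by simp [phi, up]

lemma phi_succ {j i : ℕ} (h : j ≤ i) : phi F G j (i + 1) = F i ∘ₗ phi F G j i := by
  rw [phi, phi, if_pos (h.trans i.le_succ), if_pos h, show i + 1 - j = i - j + 1 by omega, up,
    show j + (i - j) = i by omega]

lemma phi_pred {j i : ℕ} (h : i < j) : phi F G j i = G i ∘ₗ phi F G j (i + 1) := by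
  rw [phi, if_neg (by omega), show j - i = j - (i + 1) + 1 by omega, down,
    show j - (j - (i + 1) + 1) = i by omega]
  rcases eq_or_lt_of_le (show i + 1 ≤ j from h) with rfl | h'
  · simp [down]
  · rw [phi, if_neg (by omega)]

lemma phi_comp_right {j i : ℕ} (h : j < i) : phi F G (j + 1) i ∘ₗ F j = phi F G j i := by
  obtain ⟨t, rfl⟩ := Nat.exists_eq_add_of_le (Nat.succ_le_of_lt h)
  induction t with
  | zero => rw [Nat.add_zero, phi_self, LinearMap.id_comp, phi_succ F G le_rfl, phi_self, LinearMap.comp_id]
  | succ t ih =>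
    rw [show j.succ + (t + 1) = j.succ + t + 1 by omega, phi_succ F G (by omega),
      LinearMap.comp_assoc, ih (by omega), ← phi_succ F G (by omega)]

lemma phi_comp_left {j i : ℕ} (h : i ≤ j) : phi F G j i ∘ₗ G j = phi F G (j + 1) i := by
  obtain ⟨t, rfl⟩ := Nat.exists_eq_add_of_le h
  induction t generalizing i with
  | zero =>
    rw [Nat.add_zero, phi_self, LinearMap.id_comp, phi_pred F G (Nat.lt_succ_self i), phi_self,
      LinearMap.comp_id]
  | succ t ih =>
    have := ih (i := i + 1) (by omega)
    rw [show i + 1 + t = i + (t + 1) by omega] at this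
    rw [phi_pred F G (i := i) (j := i + (t + 1)) (by omega), LinearMap.comp_assoc, this,
      ← phi_pred F G (by omega)]

/-- a chain of submodules preserved by the maps -/
def Linked (n : ℕ) (V : ℕ → Submodule A E) : Prop :=
  ∀ i, i < n → (V i).map (F i) ≤ V (i + 1) ∧ (V (i + 1)).map (G i) ≤ V i

lemma Linked.phi_mem {n : ℕ} {V : ℕ → Submodule A E} (hV : Linked F G n V) {j : ℕ} (hj : j ≤ n)
    {i : ℕ} (hi : i ≤ n) {v : E} (hv : v ∈ V j) : phi F G j i v ∈ V i := by
  rcases le_total j i with h | h
  · obtain ⟨t, rfl⟩ := Nat.exists_eq_add_of_le h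
    induction t with
    | zero => simpa using hv
    | succ t ih =>
      rw [show j + (t + 1) = j + t + 1 by omega, phi_succ F G (by omega)]
      exact (hV (j + t) (by omega)).1 ⟨_, ih (by omega) (by omega), rfl⟩
  · obtain ⟨t, rfl⟩ := Nat.exists_eq_add_of_le h
    induction t generalizing i with
    | zero => simpa using hv
    | succ t ih =>
      have := ih (i := i + 1) (by omega) (by omega)
        (by rw [show i + 1 + t = i + (t + 1) by omega]; exact hv) (by omega)
      rw [show i + 1 + t = i + (t + 1) by omega] at this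
      rw [phi_pred F G (by omega)]
      exact (hV i (by omega)).2 ⟨_, this, rfl⟩

/-- both composites of consecutive maps are multiplication by `s` -/
def Rel (s : A) (n : ℕ) : Prop :=
  ∀ i, i < n → (∀ v, F i (G i v) = s • v) ∧ ∀ v, G i (F i v) = s • v

variable {F G}

lemma F_phi {s : A} {n : ℕ} (h : Rel F G s n) {j i : ℕ} (hi : i < n) (v : E) :
    F i (phi F G j i v) = (if j ≤ i then (1 : A) else s) • phi F G j (i + 1) v := by
  split_ifs with hji
  · rw [one_smul, phi_succ F G hji]; rfl
  · rw [phi_pred F G (by omega)]; exact (h i hi).1 _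

lemma G_phi {s : A} {n : ℕ} (h : Rel F G s n) {j i : ℕ} (hi : i < n) (v : E) :
    G i (phi F G j (i + 1) v) = (if j ≤ i then s else (1 : A)) • phi F G j i v := by
  split_ifs with hji
  · rw [phi_succ F G hji]; exact (h i hi).2 _
  · rw [one_smul, phi_pred F G (i := i) (by omega)]; rfl

lemma linked_span_phi {s : A} {n : ℕ} (h : Rel F G s n) {ι : Type*} (c : ι → ℕ) (e : ι → E) :
    Linked F G n fun i => Submodule.span A (Set.range fun x => phi F G (c x) i (e x)) := by
  intro i hi
  constructor <;> rw [Submodule.map_span_le] <;> rintro _ ⟨x, rfl⟩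
  · rw [F_phi h hi]
    exact Submodule.smul_mem _ _ (Submodule.subset_span ⟨x, rfl⟩)
  · rw [G_phi h hi]
    exact Submodule.smul_mem _ _ (Submodule.subset_span ⟨x, rfl⟩)

end

section

variable {R M : Type*} [CommRing R] [AddCommGroup M] [Module R M] {n : ℕ}

/-- extend a finite family of maps by zero -/
def extend (f : Fin n → M →ₗ[R] M) (i : ℕ) : M →ₗ[R] M :=
  if h : i < n then f ⟨i, h⟩ else 0

lemma extend_val (f : Fin n → M →ₗ[R] M) (i : Fin n) : extend f i = f i := by simp [extend]

variable (A : Type*) [CommRing A] [Algebra R A]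

/-- the base change of a family of maps -/
noncomputable def bc (F : ℕ → M →ₗ[R] M) (i : ℕ) : A ⊗[R] M →ₗ[A] A ⊗[R] M := (F i).baseChange A

lemma rel_bc {F G : ℕ → M →ₗ[R] M} {s : R} (h : Rel F G s n) :
    Rel (bc A F) (bc A G) (algebraMap R A s) n := by
  intro i hi
  have h1 : F i ∘ₗ G i = s • LinearMap.id := LinearMap.ext fun v => (h i hi).1 v
  have h2 : G i ∘ₗ F i = s • LinearMap.id := LinearMap.ext fun v => (h i hi).2 v
  constructor <;> intro v
  · have := LinearMap.congr_fun (LinearMap.baseChange_comp (A := A) (G i) (F i)) v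
    rw [h1, LinearMap.baseChange_smul, LinearMap.baseChange_id] at this
    simpa [bc] using this.symm
  · have := LinearMap.congr_fun (LinearMap.baseChange_comp (A := A) (F i) (G i)) v
    rw [h2, LinearMap.baseChange_smul, LinearMap.baseChange_id] at this
    simpa [bc] using this.symm

variable {A} {B : Type*} [CommRing B] [Algebra R B]

lemma rTensor_bc (φ : A →ₐ[R] B) (F : ℕ → M →ₗ[R] M) (i : ℕ) (v : A ⊗[R] M) :
    LinearMap.rTensor M φ.toLinearMap (bc A F i v) = bc B F i (LinearMap.rTensor M φ.toLinearMap v) := by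
  induction v using TensorProduct.induction_on with
  | zero => simp
  | tmul a m => simp [bc]
  | add x y hx hy => simp only [map_add, hx, hy]

lemma rTensor_phi (φ : A →ₐ[R] B) (F G : ℕ → M →ₗ[R] M) (j i : ℕ) (v : A ⊗[R] M) :
    LinearMap.rTensor M φ.toLinearMap (phi (bc A F) (bc A G) j i v) =
      phi (bc B F) (bc B G) j i (LinearMap.rTensor M φ.toLinearMap v) := by
  rcases le_total j i with h | h
  · obtain ⟨t, rfl⟩ := Nat.exists_eq_add_of_le h
    induction t with
    | zero => simp
    | succ t ih =>
      rw [show j + (t + 1) = j + t + 1 by omega, phi_succ _ _ (by omega), phi_succ _ _ (by omega),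
        LinearMap.comp_apply, LinearMap.comp_apply, rTensor_bc, ih (by omega)]
  · obtain ⟨t, rfl⟩ := Nat.exists_eq_add_of_le h
    induction t generalizing i with
    | zero => simp
    | succ t ih =>
      have := ih (i + 1) (by omega)
      rw [show i + 1 + t = i + (t + 1) by omega] at this
      rw [phi_pred _ _ (by omega), phi_pred _ _ (i := i) (j := i + (t + 1)) (by omega),
        LinearMap.comp_apply, LinearMap.comp_apply, rTensor_bc]
      congr 1

end

end Groth.Agent.LG29
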