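import Groth.Agent.Lib.Grass.Descent
import Groth.Agent.Lib.Grass.Stable

/-!
Membership in a chart of the Grassmannian is detected at residue fields.
-/

set_option autoImplicit false
set_option backward.isDefEq.respectTransparency false
universe u

open TensorProduct Module

namespace Groth.Agent.LG29

open GrassLib

variable {R : Type u} [CommRing R] {M : Type u} [AddCommGroup M] [Module R M] {k : ℕ}
variable {A : Type u} [CommRing A] [Algebra R A] (x : Fin k → M) (N : Pt R M k A)

/-- what the chart of `x` fails to reach -/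
abbrev Coker := ((A ⊗[R] M) ⧸ N.toSubmodule) ⧸ LinearMap.range (N.toSubmodule.mkQ ∘ₗ lc A x)

theorem inChart_of_subsingleton [Subsingleton (Coker x N)] : InChart x N :=
  LinearMap.range_eq_top.mp ((Submodule.Quotient.subsingleton_iff).mp inferInstance)

theorem inChart_of_smul_eq_zero {B : Type u} [CommRing B] [Algebra R B] (φ : A →ₐ[R] B) (f : A)
    (hu : IsUnit (φ f)) (hf : ∀ z : Coker x N, f • z = 0) : InChart x (GrassLib.gmap φ N) := by
  rw [inChart_iff]
  intro v
  induction v using TensorProduct.induction_on with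
  | zero => exact ⟨0, by simp⟩
  | tmul c m =>
    have h0 := hf (Submodule.Quotient.mk (N.toSubmodule.mkQ ((1 : A) ⊗ₜ[R] m)))
    rw [← Submodule.Quotient.mk_smul, ← map_smul, Submodule.Quotient.mk_eq_zero] at h0
    obtain ⟨a, ha⟩ := h0
    simp only [LinearMap.coe_comp, Function.comp_apply, Submodule.mkQ_apply] at ha
    replace ha := (Submodule.Quotient.eq _).mp ha
    have h1 := tm_mem_gmap φ ha
    rw [map_sub, tm_lc, tm_smul, LinearMap.rTensor_tmul, AlgHom.toLinearMap_apply, map_one] at h1
    refine ⟨(c * ↑hu.unit⁻¹) • fun i => φ (a i), ?_⟩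
    have h2 := Submodule.smul_mem _ (-(c * ↑hu.unit⁻¹)) h1
    rw [neg_smul, ← smul_neg, neg_sub, smul_sub, smul_smul, mul_assoc, IsUnit.val_inv_mul,
      mul_one, ← map_smul, TensorProduct.smul_tmul', smul_eq_mul, mul_one] at h2
    exact h2
  | add s t hs ht =>
    obtain ⟨a, ha⟩ := hs
    obtain ⟨a', ha'⟩ := ht
    refine ⟨a + a', ?_⟩
    rw [map_add, add_sub_add_comm]
    exact add_mem ha ha'

theorem subsingleton_baseChange_coker {B : Type u} [CommRing B] [Algebra R B] [Algebra A B]
    [IsScalarTower R A B] (h : InChart x (GrassLib.gmap (IsScalarTower.toAlgHom R A B) N)) :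
    Subsingleton (B ⊗[A] Coker x N) := by
  set g := N.toSubmodule.mkQ ∘ₗ lc A x with hg
  have key : ∀ m : M, (1 : B) ⊗ₜ[A] (LinearMap.range g).mkQ (N.toSubmodule.mkQ ((1 : A) ⊗ₜ[R] m)) = 0 := by
    intro m
    have h1 := h.sub_mem m
    rw [gmap_toSubmodule, LinearMap.mem_ker, map_sub, sub_eq_zero] at h1
    have h2 := congrArg ((LinearMap.range g).mkQ.baseChange B) h1
    rw [show (1 : B) ⊗ₜ[R] m = tm (IsScalarTower.toAlgHom R A B) ((1 : A) ⊗ₜ[R] m) by simp,
      baseChangeMkQ_tm, LinearMap.baseChange_tmul] at h2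
    rw [h2]
    have h3 : (LinearMap.range g).mkQ.baseChange B ∘ₗ
        Module.Grassmannian.baseChangeMkQ B N.toSubmodule ∘ₗ lc B x = 0 := by
      refine (Pi.basisFun B (Fin k)).ext fun i => ?_
      rw [Pi.basisFun_apply, LinearMap.comp_apply, LinearMap.comp_apply, lc_single,
        show (1 : B) ⊗ₜ[R] x i = tm (IsScalarTower.toAlgHom R A B) ((1 : A) ⊗ₜ[R] x i) by simp,
        baseChangeMkQ_tm, LinearMap.baseChange_tmul, LinearMap.zero_apply,
        show (LinearMap.range g).mkQ (N.toSubmodule.mkQ ((1 : A) ⊗ₜ[R] x i)) = 0 from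
          (Submodule.Quotient.mk_eq_zero _).mpr ⟨Pi.single i 1, by simp [hg, lc_single]⟩,
        TensorProduct.tmul_zero]
    exact LinearMap.congr_fun h3 _
  refine subsingleton_of_forall_eq 0 fun v => ?_
  induction v using TensorProduct.induction_on with
  | zero => rfl
  | tmul c z =>
    obtain ⟨q, rfl⟩ := Submodule.mkQ_surjective _ z
    obtain ⟨t, rfl⟩ := Submodule.mkQ_surjective _ q
    induction t using TensorProduct.induction_on generalizing c with
    | zero => simp
    | tmul a m =>
      rw [show a ⊗ₜ[R] m = a • ((1 : A) ⊗ₜ[R] m) by simp [TensorProduct.smul_tmul'], map_smul,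
        map_smul, ← TensorProduct.smul_tmul, show (a • c) = (a • c) • (1 : B) by simp,
        ← TensorProduct.smul_tmul', key, smul_zero]
    | add s t hs ht => rw [map_add, map_add, TensorProduct.tmul_add, hs, ht, add_zero]
  | add s t hs ht => rw [hs, ht, add_zero]

theorem notMem_support_of_res (q : PrimeSpectrum A)
    (h : InChart x (GrassLib.gmap (IsScalarTower.toAlgHom R A q.asIdeal.ResidueField) N)) :
    q ∉ Module.support A (Coker x N) := by
  rw [Module.mem_support_iff_nontrivial_residueField_tensorProduct, not_nontrivial_iff_subsingleton]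
  exact subsingleton_baseChange_coker x N h

theorem inChart_of_forall_res
    (h : ∀ q : PrimeSpectrum A,
      InChart x (GrassLib.gmap (IsScalarTower.toAlgHom R A q.asIdeal.ResidueField) N)) :
    InChart x N := by
  haveI : Subsingleton (Coker x N) :=
    Module.support_eq_empty_iff.mp (Set.eq_empty_iff_forall_notMem.mpr fun q =>
      notMem_support_of_res x N q (h q))
  exact inChart_of_subsingleton x N

theorem exists_away_of_res (q : PrimeSpectrum A)
    (h : InChart x (GrassLib.gmap (IsScalarTower.toAlgHom R A q.asIdeal.ResidueField) N)) :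
    ∃ f : A, f ∉ q.asIdeal ∧ ∀ (B : Type u) [CommRing B] [Algebra R B] (φ : A →ₐ[R] B),
      IsUnit (φ f) → InChart x (GrassLib.gmap φ N) := by
  have hC := notMem_support_of_res x N q h
  rw [Module.mem_support_iff_of_finite, SetLike.not_le_iff_exists] at hC
  obtain ⟨f, hfC, hfp⟩ := hC
  exact ⟨f, hfp, fun B _ _ φ hu =>
    inChart_of_smul_eq_zero x N φ f hu fun z => Module.mem_annihilator.mp hfC z⟩

theorem inChart_of_gmap_field {K L : Type u} [Field K] [Algebra R K] [Field L] [Algebra R L]
    (φ : K →ₐ[R] L) (N : Pt R M k K) (h : InChart x (GrassLib.gmap φ N)) : InChart x N := by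
  let _ : Algebra K L := φ.toAlgebra
  have : IsScalarTower R K L := IsScalarTower.of_algebraMap_eq' φ.comp_algebraMap.symm
  have hφ : φ = IsScalarTower.toAlgHom R K L := rfl
  rw [hφ] at h
  haveI := subsingleton_baseChange_coker x N h
  haveI : Subsingleton (Coker x N) := by
    rw [← Module.finrank_zero_iff (R := K), ← Module.finrank_baseChange (R := L)]
    exact Module.finrank_zero_of_subsingleton
  exact inChart_of_subsingleton x N

end Groth.Agent.LG29
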