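import Groth.Agent.Lib.LG29.Chain
import Groth.Agent.Lib.LG29.Local

/-!
Charts on the locus of linked tuples generated by one frame.
-/

set_option autoImplicit false
set_option backward.isDefEq.respectTransparency false
universe u

open TensorProduct Module

namespace Groth.Agent.LG29

open GrassLib

variable {R : Type u} [CommRing R] {M : Type u} [AddCommGroup M] [Module R M] {d r k n : ℕ}
variable {A B : Type u} [CommRing A] [Algebra R A] [CommRing B] [Algebra R B]

variable (M n r k) in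
/-- the data of a chart: complements, and generators with their levels -/
structure Ix where
  /-- complements -/
  x : Fin (n + 1) → Fin k → M
  /-- levels -/
  c : Fin r → Fin (n + 1)
  /-- generators before correction -/
  w : Fin r → M

/-- the members of a tuple, indexed by all natural numbers -/
def subs (N : Fin (n + 1) → Pt R M k A) (i : ℕ) : Submodule A (A ⊗[R] M) :=
  if h : i < n + 1 then (N ⟨i, h⟩).toSubmodule else ⊥

lemma subs_val (N : Fin (n + 1) → Pt R M k A) (i : Fin (n + 1)) : subs N i = (N i).toSubmodule := by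
  unfold subs; rw [dif_pos i.2]

variable (F G : ℕ → M →ₗ[R] M) (bM : Basis (Fin d) R M) (σ : Fin d ≃ Fin r ⊕ Fin k)
variable (D : Ix M r k n)

/-- linked tuples -/
def LinkedT (N : Fin (n + 1) → Pt R M k A) : Prop := Linked (bc A F) (bc A G) n (subs N)

lemma LinkedT.gmap {N : Fin (n + 1) → Pt R M k A} (hN : LinkedT F G N) (φ : A →ₐ[R] B) :
    LinkedT F G (fun i => GrassLib.gmap φ (N i)) := by
  intro i hi
  obtain ⟨h1, h2⟩ := hN i hi
  have e1 := subs_val N ⟨i, by omega⟩
  have e2 := subs_val N ⟨i + 1, by omega⟩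
  rw [e1, e2] at h1 h2
  rw [subs_val (fun j => GrassLib.gmap φ (N j)) ⟨i, by omega⟩,
    subs_val (fun j => GrassLib.gmap φ (N j)) ⟨i + 1, by omega⟩]
  simp only [gmap_eq_span]
  constructor <;> rw [Submodule.map_span_le] <;> rintro _ ⟨v, hv, rfl⟩
  · exact Submodule.subset_span ⟨_, h1 ⟨v, hv, rfl⟩, rTensor_bc φ F i v⟩
  · exact Submodule.subset_span ⟨_, h2 ⟨v, hv, rfl⟩, rTensor_bc φ G i v⟩

/-- the corrected generators -/
noncomputable def vt (a : Fin r → Fin k → A) (t : Fin r) : A ⊗[R] M :=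
  (1 : A) ⊗ₜ[R] D.w t + lc A (D.x (D.c t)) (a t)

/-- generators and complements at one place -/
noncomputable def fam (a : Fin r → Fin k → A) (i : Fin (n + 1)) : Fin r ⊕ Fin k → A ⊗[R] M :=
  Sum.elim (fun t => phi (bc A F) (bc A G) (D.c t) i (vt D a t))
    (fun j => (1 : A) ⊗ₜ[R] D.x i j)

/-- the determinant at one place -/
noncomputable def fdet (a : Fin r → Fin k → A) (i : Fin (n + 1)) : A :=
  ((bM.baseChange A).reindex σ).det (fam F G D a i)

/-- the coefficients give a chart point -/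
def GoodC (a : Fin r → Fin k → A) : Prop := ∀ i, IsUnit (fdet F G bM σ D a i)

lemma tm_fam (φ : A →ₐ[R] B) (a : Fin r → Fin k → A) (i : Fin (n + 1)) (y : Fin r ⊕ Fin k) :
    tm φ (fam F G D a i y) = fam F G D (fun t j => φ (a t j)) i y := by
  rcases y with t | j
  · simp only [fam, Sum.elim_inl]
    refine (rTensor_phi φ F G _ _ _).trans (congrArg _ ?_)
    simp [vt, tm_lc]
  · simp [fam]

lemma repr_tm (φ : A →ₐ[R] B) (v : A ⊗[R] M) (y : Fin d) :
    (bM.baseChange B).repr (tm φ v) y = φ ((bM.baseChange A).repr v y) := by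
  induction v using TensorProduct.induction_on with
  | zero => simp
  | tmul a m => simp [Algebra.smul_def]
  | add p q hp hq => simp only [map_add, Finsupp.add_apply, hp, hq]

lemma fdet_map (φ : A →ₐ[R] B) (a : Fin r → Fin k → A) (i : Fin (n + 1)) :
    φ (fdet F G bM σ D a i) = fdet F G bM σ D (fun t j => φ (a t j)) i := by
  rw [fdet, fdet, Basis.det_apply, Basis.det_apply, AlgHom.map_det]
  congr 1
  ext p q
  simp only [AlgHom.mapMatrix_apply, Matrix.map_apply, Basis.toMatrix_apply, Basis.repr_reindex,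
    Finsupp.mapDomain_equiv_apply]
  rw [← tm_fam F G D φ a i q, repr_tm]

lemma GoodC.map {a : Fin r → Fin k → A} (h : GoodC F G bM σ D a) (φ : A →ₐ[R] B) :
    GoodC F G bM σ D (fun t j => φ (a t j)) := fun i => by
  rw [← fdet_map]; exact (h i).map φ

variable {F G bM σ D}

/-- the basis at one place -/
noncomputable def GoodC.basis {a : Fin r → Fin k → A} (h : GoodC F G bM σ D a) (i : Fin (n + 1)) :
    Basis (Fin r ⊕ Fin k) A (A ⊗[R] M) :=
  Basis.mk ((Basis.is_basis_iff_det _).mpr (h i)).1 ((Basis.is_basis_iff_det _).mpr (h i)).2.ge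

lemma GoodC.basis_apply {a : Fin r → Fin k → A} (h : GoodC F G bM σ D a) (i : Fin (n + 1))
    (y : Fin r ⊕ Fin k) : h.basis i y = fam F G D a i y := Basis.mk_apply _ _ _

/-- the coordinates on the complement -/
noncomputable def GoodC.coord {a : Fin r → Fin k → A} (h : GoodC F G bM σ D a) (i : Fin (n + 1)) :
    A ⊗[R] M →ₗ[A] Fin k → A :=
  LinearMap.pi fun j => (h.basis i).coord (Sum.inr j)

/-- the coordinates on the complement, as a map on `M` -/
noncomputable def GoodC.ell {a : Fin r → Fin k → A} (h : GoodC F G bM σ D a) (i : Fin (n + 1)) :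
    M →ₗ[R] Fin k → A :=
  (h.coord i).restrictScalars R ∘ₗ TensorProduct.mk R A M 1

lemma GoodC.ell_x {a : Fin r → Fin k → A} (h : GoodC F G bM σ D a) (i : Fin (n + 1)) (j : Fin k) :
    h.ell i (D.x i j) = Pi.single j 1 := by
  have e : (1 : A) ⊗ₜ[R] D.x i j = h.basis i (Sum.inr j) := by rw [h.basis_apply]; rfl
  funext j'
  simp [GoodC.ell, GoodC.coord, e, Pi.single_apply, Finsupp.single_apply, eq_comm]

lemma GoodC.lift_ell {a : Fin r → Fin k → A} (h : GoodC F G bM σ D a) (i : Fin (n + 1)) :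
    (h.ell i).liftBaseChange A = h.coord i := by
  ext m j; simp [GoodC.ell]

/-- the chart point -/
noncomputable def GoodC.point {a : Fin r → Fin k → A} (h : GoodC F G bM σ D a) (i : Fin (n + 1)) :
    Pt R M k A :=
  ofEll (D.x i) (h.ell i) (h.ell_x i)

lemma GoodC.point_eq_span {a : Fin r → Fin k → A} (h : GoodC F G bM σ D a) (i : Fin (n + 1)) :
    (h.point i).toSubmodule = Submodule.span A (Set.range fun t => fam F G D a i (Sum.inl t)) := by
  rw [GoodC.point, ofEll_toSubmodule, h.lift_ell]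
  refine le_antisymm (fun v hv => ?_) (Submodule.span_le.mpr ?_)
  · rw [← (h.basis i).sum_repr v, Fintype.sum_sum_type]
    refine add_mem (sum_mem fun t _ => ?_) (sum_mem fun j _ => ?_)
    · rw [h.basis_apply]
      exact Submodule.smul_mem _ _ (Submodule.subset_span ⟨t, rfl⟩)
    · have := congrFun (LinearMap.mem_ker.mp hv) j
      simp only [GoodC.coord, LinearMap.pi_apply, Basis.coord_apply, Pi.zero_apply] at this
      rw [this, zero_smul]
      exact zero_mem _
  · rintro _ ⟨t, rfl⟩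
    simp only [SetLike.mem_coe, LinearMap.mem_ker]
    funext j
    simp [GoodC.coord, ← h.basis_apply i]

lemma GoodC.inChart {a : Fin r → Fin k → A} (h : GoodC F G bM σ D a) (i : Fin (n + 1)) :
    InChart (D.x i) (h.point i) := inChart_ofEll _ _ _

lemma GoodC.linked {s : R} (hrel : Rel F G s n) {a : Fin r → Fin k → A}
    (h : GoodC F G bM σ D a) : LinkedT F G h.point := by
  have hl := linked_span_phi (rel_bc A hrel) (fun t => (D.c t : ℕ)) (vt D a)
  intro i hi
  rw [subs_val h.point ⟨i, by omega⟩, subs_val h.point ⟨i + 1, by omega⟩, h.point_eq_span,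
    h.point_eq_span]
  exact hl i hi

variable (F G bM σ D)

/-- the coordinates of a tuple lying in all Grassmannian charts -/
noncomputable def coeffs {N : Fin (n + 1) → Pt R M k A} (h : ∀ i, InChart (D.x i) (N i))
    (t : Fin r) : Fin k → A :=
  -(h (D.c t)).ell (D.w t)

/-- a tuple in the chart -/
def GoodT (N : Fin (n + 1) → Pt R M k A) : Prop :=
  ∃ h : ∀ i, InChart (D.x i) (N i), GoodC F G bM σ D (coeffs D h)

variable {F G bM σ D}

lemma vt_coeffs_mem {N : Fin (n + 1) → Pt R M k A} (h : ∀ i, InChart (D.x i) (N i)) (t : Fin r) :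
    vt D (coeffs D h) t ∈ (N (D.c t)).toSubmodule := by
  rw [vt, coeffs, map_neg, ← sub_eq_add_neg]
  exact (h (D.c t)).sub_mem _

lemma coeffs_map {N : Fin (n + 1) → Pt R M k A} (h : ∀ i, InChart (D.x i) (N i)) (φ : A →ₐ[R] B) :
    coeffs D (fun i => (h i).gmap φ) = fun t j => φ (coeffs D h t j) := by
  funext t j
  simp only [coeffs, Pi.neg_apply, map_neg]
  rw [show InChart.ell _ (D.w t) = _ from (h (D.c t)).ell_gmap φ (D.w t)]

lemma GoodC.coeffs_point {a : Fin r → Fin k → A} (h : GoodC F G bM σ D a)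
    (h' : ∀ i, InChart (D.x i) (h.point i)) : coeffs D h' = a := by
  funext t
  have h1 : vt D a t ∈ (h.point (D.c t)).toSubmodule := by
    rw [h.point_eq_span]
    exact Submodule.subset_span ⟨t, by simp [fam]⟩
  have h2 := ((h' (D.c t)).mem_iff _).mp h1
  rw [vt, map_add, liftBaseChange_lc _ _ (h' (D.c t)).ell_apply_x] at h2
  simp only [LinearMap.liftBaseChange_tmul, one_smul] at h2
  rw [coeffs, neg_eq_iff_add_eq_zero]
  exact h2

lemma GoodC.goodT {a : Fin r → Fin k → A} (h : GoodC F G bM σ D a) : GoodT F G bM σ D h.point :=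
  ⟨h.inChart, by rw [h.coeffs_point]; exact h⟩

lemma eq_point {N : Fin (n + 1) → Pt R M k A} (hN : LinkedT F G N)
    (h : ∀ i, InChart (D.x i) (N i)) (hg : GoodC F G bM σ D (coeffs D h)) : hg.point = N := by
  funext i
  refine (hg.inChart i).ext (h i) ?_
  refine ((hg.inChart i).ell_eq (h i).ell (h i).ell_apply_x ?_)
  rw [← (h i).ker_eq, hg.point_eq_span, Submodule.span_le]
  rintro _ ⟨t, rfl⟩
  have := hN.phi_mem (bc A F) (bc A G) (Nat.le_of_lt_succ (D.c t).2) (Nat.le_of_lt_succ i.2)
    (show vt D (coeffs D h) t ∈ subs N (D.c t) by rw [subs_val]; exact vt_coeffs_mem h t)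
  rw [subs_val] at this
  exact this

lemma GoodT.gmap {N : Fin (n + 1) → Pt R M k A} (hN : GoodT F G bM σ D N) (φ : A →ₐ[R] B) :
    GoodT F G bM σ D (fun i => GrassLib.gmap φ (N i)) := by
  obtain ⟨h, hg⟩ := hN
  exact ⟨fun i => (h i).gmap φ, by rw [coeffs_map h φ]; exact hg.map F G bM σ D φ⟩

lemma GoodT.ext {N N' : Fin (n + 1) → Pt R M k A} (hl : LinkedT F G N) (hl' : LinkedT F G N')
    (h : ∀ i, InChart (D.x i) (N i)) (h' : ∀ i, InChart (D.x i) (N' i))
    (hg : GoodC F G bM σ D (coeffs D h)) (e : coeffs D h = coeffs D h') : N = N' := by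
  have hg' : GoodC F G bM σ D (coeffs D h') := e ▸ hg
  rw [← eq_point hl h hg, ← eq_point hl' h' hg']
  congr 1

theorem goodT_of_gmap_field {K L : Type u} [Field K] [Algebra R K] [Field L] [Algebra R L]
    (φ : K →ₐ[R] L) {N : Fin (n + 1) → Pt R M k K}
    (hN : GoodT F G bM σ D (fun i => GrassLib.gmap φ (N i))) : GoodT F G bM σ D N := by
  obtain ⟨h', hg⟩ := hN
  have h : ∀ i, InChart (D.x i) (N i) := fun i => inChart_of_gmap_field _ φ _ (h' i)
  refine ⟨h, fun i => isUnit_iff_ne_zero.mpr fun h0 => ?_⟩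
  have h1 : fdet F G bM σ D (coeffs D h') i = φ (fdet F G bM σ D (coeffs D h) i) := by
    rw [fdet_map, ← coeffs_map h φ]
  exact (hg i).ne_zero (by rw [h1, h0, map_zero])

theorem goodT_of_forall_res {N : Fin (n + 1) → Pt R M k A}
    (hN : ∀ q : PrimeSpectrum A, GoodT F G bM σ D
      (fun i => GrassLib.gmap (IsScalarTower.toAlgHom R A q.asIdeal.ResidueField) (N i))) :
    GoodT F G bM σ D N := by
  have h : ∀ i, InChart (D.x i) (N i) := fun i => inChart_of_forall_res _ _ fun q => (hN q).1 i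
  refine ⟨h, fun i => ?_⟩
  by_contra hu
  obtain ⟨I, hI, hxI⟩ := exists_max_ideal_of_mem_nonunits hu
  obtain ⟨h', hg⟩ := hN ⟨I, hI.isPrime⟩
  have h1 : fdet F G bM σ D (coeffs D h') i =
      IsScalarTower.toAlgHom R A I.ResidueField (fdet F G bM σ D (coeffs D h) i) := by
    rw [fdet_map, ← coeffs_map h]
  refine (hg i).ne_zero (h1.trans ?_)
  rwa [IsScalarTower.coe_toAlgHom', Ideal.algebraMap_residueField_eq_zero]

theorem exists_nhd_goodT {N : Fin (n + 1) → Pt R M k A} (q : PrimeSpectrum A)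
    (hq : GoodT F G bM σ D
      (fun i => GrassLib.gmap (IsScalarTower.toAlgHom R A q.asIdeal.ResidueField) (N i))) :
    ∃ f : A, f ∉ q.asIdeal ∧ ∀ q' : PrimeSpectrum A, f ∉ q'.asIdeal → GoodT F G bM σ D
      (fun i => GrassLib.gmap (IsScalarTower.toAlgHom R A q'.asIdeal.ResidueField) (N i)) := by
  obtain ⟨hres, hgood⟩ := hq
  choose f hf hfc using fun i => exists_away_of_res (D.x i) (N i) q (hres i)
  let f0 := ∏ i, f i
  have hf0 : f0 ∉ q.asIdeal := fun hmem => by
    obtain ⟨i, -, hi⟩ := (Ideal.IsPrime.prod_mem_iff (p := q.asIdeal)).mp hmem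
    exact hf i hi
  let A' := Localization.Away f0
  let φ := IsScalarTower.toAlgHom R A A'
  have hu : ∀ i, IsUnit (φ (f i)) := fun i => by
    have hunit : IsUnit (φ f0) := IsLocalization.Away.algebraMap_isUnit f0
    rw [map_prod, IsUnit.prod_iff] at hunit
    exact hunit i (Finset.mem_univ i)
  have h : ∀ i, InChart (D.x i) (GrassLib.gmap φ (N i)) := fun i => hfc i A' φ (hu i)
  let δ := ∏ i, fdet F G bM σ D (coeffs D h) i
  obtain ⟨⟨a, ⟨_, e, rfl⟩⟩, he⟩ := IsLocalization.surj (Submonoid.powers f0) δ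
  have fac : ∀ (q' : PrimeSpectrum A), f0 ∉ q'.asIdeal →
      ∃ ψ : A' →ₐ[R] q'.asIdeal.ResidueField, ψ.comp φ = IsScalarTower.toAlgHom R A _ := by
    intro q' hq'
    have hu' : ∀ y : Submonoid.powers f0,
        IsUnit (IsScalarTower.toAlgHom R A q'.asIdeal.ResidueField y) := by
      rintro ⟨_, j, rfl⟩
      rw [map_pow]
      refine IsUnit.pow _ (isUnit_iff_ne_zero.mpr fun h0 => hq' ?_)
      rwa [IsScalarTower.coe_toAlgHom', Ideal.algebraMap_residueField_eq_zero] at h0
    exact ⟨IsLocalization.liftAlgHom hu', AlgHom.ext fun z => IsLocalization.lift_eq _ z⟩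
  have hδ : ∀ (q' : PrimeSpectrum A) (hq' : f0 ∉ q'.asIdeal),
      a ∉ q'.asIdeal ↔ GoodT F G bM σ D
        (fun i => GrassLib.gmap (IsScalarTower.toAlgHom R A q'.asIdeal.ResidueField) (N i)) := by
    intro q' hq'
    obtain ⟨ψ, hψ⟩ := fac q' hq'
    have hN' : (fun i => GrassLib.gmap (IsScalarTower.toAlgHom R A q'.asIdeal.ResidueField) (N i)) =
        fun i => GrassLib.gmap ψ (GrassLib.gmap φ (N i)) := by
      funext i; rw [← gmap_comp, hψ]
    rw [hN']
    have h1 := congrArg ψ he
    rw [map_mul, show ψ (algebraMap A A' a) = algebraMap A q'.asIdeal.ResidueField a from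
      AlgHom.congr_fun hψ a, show ψ (algebraMap A A' (f0 ^ e)) = algebraMap A q'.asIdeal.ResidueField (f0 ^ e)
      from AlgHom.congr_fun hψ _] at h1
    have hne : algebraMap A q'.asIdeal.ResidueField (f0 ^ e) ≠ 0 := by
      rw [map_pow]; refine pow_ne_zero _ fun h0 => hq' ?_
      rwa [Ideal.algebraMap_residueField_eq_zero] at h0
    have h2 : a ∉ q'.asIdeal ↔ ψ δ ≠ 0 := by
      rw [← Ideal.algebraMap_residueField_eq_zero, ← h1, mul_eq_zero, not_or]
      exact and_iff_left hne
    rw [h2, map_prod, Finset.prod_ne_zero_iff]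
    constructor
    · intro hne'
      refine ⟨fun i => (h i).gmap ψ, fun i => ?_⟩
      rw [coeffs_map h, ← fdet_map]
      exact isUnit_iff_ne_zero.mpr (hne' i (Finset.mem_univ i))
    · rintro ⟨h', hg⟩ i -
      have := (hg i).ne_zero
      rwa [show coeffs D h' = fun t j => ψ (coeffs D h t j) from coeffs_map h ψ, ← fdet_map] at this
  refine ⟨f0 * a, fun hmem => ?_, fun q' hq' => ?_⟩
  · rcases Ideal.IsPrime.mem_or_mem inferInstance hmem with h' | h'
    · exact hf0 h'
    · exact ((hδ q hf0).mpr ⟨hres, hgood⟩) h'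
  · exact (hδ q' fun h' => hq' (Ideal.mul_mem_right _ _ h')).mp
      fun h' => hq' (Ideal.mul_mem_left _ _ h')

end Groth.Agent.LG29
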