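import Groth.Agent.Lib.LG29.Glue
import Groth.Agent.Lib.LG29.Chain
import Groth.Agent.Lib.Grass.Stable
import Groth.Agent.Lib.Grass.Plucker
import Groth.Agent.Lib.ProjSpace.Basic
import Groth.Prelude.Def_W4c1limliniiiiLG

/-!
Schemes representing a natural set of tuples of points of a Grassmannian; construction for linked
tuples, and properness.
-/

set_option autoImplicit false
set_option backward.isDefEq.respectTransparency false
universe u

open TensorProduct Module CategoryTheory Limits AlgebraicGeometry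

namespace Groth.Agent.LG29

open GrassLib

variable {R : Type u} [CommRing R] {M : Type u} [AddCommGroup M] [Module R M] {k m : ℕ}
variable {A B : Type u} [CommRing A] [Algebra R A] [CommRing B] [Algebra R B]

variable (R M k m) in
/-- a scheme over `Spec R` whose affine points are the tuples in `S` -/
structure SRep (S : ∀ (A : Type u) [CommRing A] [Algebra R A], Set (Fin m → Pt R M k A))
    (X : Over (Spec (CommRingCat.of R))) where
  /-- the bijections -/
  e : ∀ A : CommAlgCat.{u} R, (Over.mk (str R A) ⟶ X) ≃ ↥(S A)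
  natural : ∀ (A B : CommAlgCat.{u} R) (φ : A ⟶ B) (g : Over.mk (str R A) ⟶ X)
    (g' : Over.mk (str R B) ⟶ X),
    g'.left = Spec.map (CommRingCat.ofHom φ.hom.toRingHom) ≫ g.left →
      ∀ i, (e B g').1 i = Module.Grassmannian.map φ.hom ((e A g).1 i)

namespace SRep

variable {S : ∀ (A : Type u) [CommRing A] [Algebra R A], Set (Fin m → Pt R M k A)}
variable {X X' : Over (Spec (CommRingCat.of R))} (hX : SRep R M k m S X) (hX' : SRep R M k m S X')

/-- the point of a morphism -/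
noncomputable def pt (g : Spec (CommRingCat.of A) ⟶ X.left) (hg : g ≫ X.hom = str R A) :
    Fin m → Pt R M k A :=
  (hX.e (CommAlgCat.of R A) (Over.homMk g hg)).1

lemma pt_mem (g : Spec (CommRingCat.of A) ⟶ X.left) (hg : g ≫ X.hom = str R A) :
    hX.pt g hg ∈ S A := (hX.e (CommAlgCat.of R A) (Over.homMk g hg)).2

/-- the morphism of a point -/
noncomputable def mor (N : Fin m → Pt R M k A) (hN : N ∈ S A) : Spec (CommRingCat.of A) ⟶ X.left :=
  ((hX.e (CommAlgCat.of R A)).symm ⟨N, hN⟩).left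

lemma mor_str (N : Fin m → Pt R M k A) (hN : N ∈ S A) : hX.mor N hN ≫ X.hom = str R A :=
  Over.w ((hX.e (CommAlgCat.of R A)).symm ⟨N, hN⟩)

lemma mor_pt (g : Spec (CommRingCat.of A) ⟶ X.left) (hg : g ≫ X.hom = str R A) :
    hX.mor (hX.pt g hg) (hX.pt_mem g hg) = g := by
  show ((hX.e (CommAlgCat.of R A)).symm (hX.e (CommAlgCat.of R A) (Over.homMk g hg))).left = g
  rw [Equiv.symm_apply_apply]
  rfl

lemma pt_mor (N : Fin m → Pt R M k A) (hN : N ∈ S A) : hX.pt (hX.mor N hN) (hX.mor_str N hN) = N := by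
  show (hX.e (CommAlgCat.of R A) ((hX.e (CommAlgCat.of R A)).symm ⟨N, hN⟩)).1 = N
  rw [Equiv.apply_symm_apply]

lemma pt_congr {g g' : Spec (CommRingCat.of A) ⟶ X.left} (h : g = g') (hg : g ≫ X.hom = str R A)
    (hg' : g' ≫ X.hom = str R A) : hX.pt g hg = hX.pt g' hg' := by subst h; rfl

lemma mor_injective {N N' : Fin m → Pt R M k A} {hN : N ∈ S A} {hN' : N' ∈ S A}
    (h : hX.mor N hN = hX.mor N' hN') : N = N' := by
  rw [← hX.pt_mor N hN, ← hX.pt_mor N' hN']
  exact hX.pt_congr h _ _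

lemma mor_congr {N N' : Fin m → Pt R M k A} (h : N = N') (hN : N ∈ S A) (hN' : N' ∈ S A) :
    hX.mor N hN = hX.mor N' hN' := by subst h; rfl

lemma pt_injective {g g' : Spec (CommRingCat.of A) ⟶ X.left} {hg : g ≫ X.hom = str R A}
    {hg' : g' ≫ X.hom = str R A} (h : hX.pt g hg = hX.pt g' hg') : g = g' := by
  rw [← hX.mor_pt g hg, ← hX.mor_pt g' hg']
  exact hX.mor_congr h _ _

lemma comp_str {φ : A →ₐ[R] B} {g : Spec (CommRingCat.of A) ⟶ X.left}
    (hg : g ≫ X.hom = str R A) : (sp φ ≫ g) ≫ X.hom = str R B := by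
  rw [Category.assoc, hg, sp_str]

lemma pt_comp (φ : A →ₐ[R] B) (g : Spec (CommRingCat.of A) ⟶ X.left) (hg : g ≫ X.hom = str R A)
    (hg' : (sp φ ≫ g) ≫ X.hom = str R B) (i : Fin m) :
    hX.pt (sp φ ≫ g) hg' i = gmap φ (hX.pt g hg i) :=
  hX.natural (CommAlgCat.of R A) (CommAlgCat.of R B) (CommAlgCat.ofHom φ) (Over.homMk g hg)
    (Over.homMk (sp φ ≫ g) hg') rfl i

lemma gmap_mem (hX : SRep R M k m S X) (φ : A →ₐ[R] B) {N : Fin m → Pt R M k A} (hN : N ∈ S A) :
    (fun i => gmap φ (N i)) ∈ S B := by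
  have h := hX.pt_mem (sp φ ≫ hX.mor N hN) (comp_str (hX.mor_str N hN))
  rwa [show hX.pt (sp φ ≫ hX.mor N hN) (comp_str (hX.mor_str N hN)) = fun i => gmap φ (N i) from
    funext fun i => by rw [hX.pt_comp φ _ (hX.mor_str N hN), hX.pt_mor]] at h

lemma sp_mor (φ : A →ₐ[R] B) (N : Fin m → Pt R M k A) (hN : N ∈ S A) :
    sp φ ≫ hX.mor N hN = hX.mor (fun i => gmap φ (N i)) (hX.gmap_mem φ hN) := by
  refine hX.pt_injective (hg := comp_str (hX.mor_str N hN)) (hg' := hX.mor_str _ _) ?_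
  rw [hX.pt_mor]
  funext i
  rw [hX.pt_comp φ _ (hX.mor_str N hN), hX.pt_mor]

include hX hX' in
/-- the comparison between two representing schemes -/
theorem exists_iso : ∃ ψ : X.left ⟶ X'.left, IsIso ψ ∧ ψ ≫ X'.hom = X.hom := by
  let Φ : ∀ {C : CommRingCat.{u}}, (Spec C ⟶ X.left) → (Spec C ⟶ X'.left) := fun {C} h =>
    letI := (exists_algebra_str (R := R) (h ≫ X.hom)).choose
    hX'.mor (hX.pt (A := C) h (exists_algebra_str (R := R) (h ≫ X.hom)).choose_spec.symm)
      (hX.pt_mem _ _)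
  have hΦ : ∀ (C : Type u) [CommRing C] [iC : Algebra R C] (h : Spec (CommRingCat.of C) ⟶ X.left)
      (hh : h ≫ X.hom = str R C), Φ h = hX'.mor (hX.pt h hh) (hX.pt_mem h hh) := by
    intro C _ iC h hh
    let T := hX'.mor (hX.pt h hh) (hX.pt_mem h hh)
    have key : ∀ (i : Algebra R C) (hi : h ≫ X.hom = @str R _ C _ i), i = iC →
        (letI := i; hX'.mor (hX.pt h hi) (hX.pt_mem h hi)) = T := by
      rintro i hi rfl; rfl
    refine key _ (exists_algebra_str (R := R) (h ≫ X.hom)).choose_spec.symm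
      (Algebra.algebra_ext _ _ fun x => ?_)
    have h1 := (exists_algebra_str (R := R) (h ≫ X.hom)).choose_spec.trans hh
    exact RingHom.congr_fun (congrArg CommRingCat.Hom.hom (Spec.map_injective h1)) x
  obtain ⟨ψ, hψ⟩ := exists_glue (Y := X.left) (X := X'.left) (fun {C} h => Φ h) (fun {C D} h φ => by
    obtain ⟨iC, hC⟩ := exists_algebra_str (R := R) (h ≫ X.hom)
    obtain ⟨iD, hD⟩ := exists_algebra_str (R := R) ((Spec.map φ ≫ h) ≫ X.hom)
    letI := iC; letI := iD
    have hc : φ.hom.comp (algebraMap R C) = algebraMap R D := by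
      have h1 : Spec.map φ ≫ str R C = str R D :=
        ((congrArg (Spec.map φ ≫ ·) hC).trans (Category.assoc _ _ _).symm).trans hD.symm
      rw [str, str, ← Spec.map_comp] at h1
      exact congrArg CommRingCat.Hom.hom (Spec.map_injective h1)
    let χ : C →ₐ[R] D := { φ.hom with commutes' := fun r => RingHom.congr_fun hc r }
    rw [hΦ C h hC.symm, hΦ D _ hD.symm]
    show hX'.mor _ _ = sp χ ≫ hX'.mor _ _
    rw [hX'.sp_mor]
    exact hX'.mor_congr (funext fun i => hX.pt_comp χ h hC.symm _ i) _ _)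
  have hψ' : ∀ (C : Type u) [CommRing C] [Algebra R C] (h : Spec (CommRingCat.of C) ⟶ X.left)
      (hh : h ≫ X.hom = str R C), h ≫ ψ = hX'.mor (hX.pt h hh) (hX.pt_mem h hh) := fun C _ _ h hh =>
    (hψ h).trans (hΦ C h hh)
  have hbase : ψ ≫ X'.hom = X.hom := hom_ext_points fun C g => by
    obtain ⟨iC, hC⟩ := exists_algebra_str (R := R) (g ≫ X.hom)
    letI := iC
    rw [← Category.assoc, hψ' C g hC.symm, hX'.mor_str]
    exact hC
  refine ⟨ψ, isIso_of_bijective ψ (fun C g g' hgg => ?_) (fun C h => ?_), hbase⟩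
  · obtain ⟨iC, hC⟩ := exists_algebra_str (R := R) (g ≫ X.hom)
    letI := iC
    have hg' : g' ≫ X.hom = str R C := by
      rw [← hbase, ← Category.assoc, ← hgg, Category.assoc, hbase]; exact hC.symm
    rw [hψ' C g hC.symm, hψ' C g' hg'] at hgg
    exact hX.pt_injective (hX'.mor_injective hgg)
  · obtain ⟨iC, hC⟩ := exists_algebra_str (R := R) (h ≫ X'.hom)
    letI := iC
    refine ⟨hX.mor (hX'.pt h hC.symm) (hX'.pt_mem _ _), ?_⟩
    rw [hψ' C _ (hX.mor_str _ _)]
    exact (hX'.mor_congr (hX.pt_mor _ _) _ _).trans (hX'.mor_pt h hC.symm)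

theorem isProper_of {Y Y' : Over (Spec (CommRingCat.of R))} (hY : SRep R M k m S Y)
    (hY' : SRep R M k m S Y') [IsProper Y'.hom] : IsProper Y.hom := by
  obtain ⟨ψ, hψ, h⟩ := hY.exists_iso hY'
  rw [← h]
  infer_instance

end SRep

end Groth.Agent.LG29
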