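import Groth.Agent.Lib.LG29.Chart
import Groth.Agent.Lib.LG29.Rep
import Groth.Agent.Lib.Grass.Point

/-!
The open subscheme of a chart.
-/

set_option autoImplicit false
set_option backward.isDefEq.respectTransparency false
universe u

open TensorProduct Module CategoryTheory Limits AlgebraicGeometry

namespace Groth.Agent.LG29

open GrassLib

variable {R : Type u} [CommRing R] {M : Type u} [AddCommGroup M] [Module R M] {d r k n : ℕ}
variable {A B : Type u} [CommRing A] [Algebra R A] [CommRing B] [Algebra R B]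
variable (F G : ℕ → M →ₗ[R] M) (bM : Basis (Fin d) R M) (σ : Fin d ≃ Fin r ⊕ Fin k)
variable (D : Ix M r k n)

/-- the polynomial coefficients -/
noncomputable def genCoeff (t : Fin r) (j : Fin k) : MvPolynomial (Fin r × Fin k) R :=
  MvPolynomial.X (t, j)

/-- the function whose complement the chart is -/
noncomputable def chartDet : MvPolynomial (Fin r × Fin k) R :=
  ∏ i, fdet F G bM σ D genCoeff i

/-- the ring of the chart -/
abbrev ChartRing : Type u := Localization.Away (chartDet F G bM σ D)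

/-- the coefficients over the ring of the chart -/
noncomputable def uCoeff (t : Fin r) (j : Fin k) : ChartRing F G bM σ D :=
  algebraMap (MvPolynomial (Fin r × Fin k) R) _ (genCoeff t j)

lemma goodC_uCoeff : GoodC F G bM σ D (uCoeff F G bM σ D) := by
  intro i
  have h := fdet_map F G bM σ D
    (IsScalarTower.toAlgHom R (MvPolynomial (Fin r × Fin k) R) (ChartRing F G bM σ D)) genCoeff i
  rw [show uCoeff F G bM σ D = fun t j => IsScalarTower.toAlgHom R (MvPolynomial (Fin r × Fin k) R)
    (ChartRing F G bM σ D) (genCoeff t j) from rfl, ← h]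
  have hu : IsUnit (algebraMap (MvPolynomial (Fin r × Fin k) R) (ChartRing F G bM σ D)
      (chartDet F G bM σ D)) := IsLocalization.Away.algebraMap_isUnit _
  have hu' : IsUnit (∏ i, algebraMap (MvPolynomial (Fin r × Fin k) R) (ChartRing F G bM σ D)
      (fdet F G bM σ D genCoeff i)) := by rw [← map_prod]; exact hu
  rw [IsUnit.prod_iff] at hu'
  exact hu' i (Finset.mem_univ i)

lemma algHom_ext_chart {χ χ' : ChartRing F G bM σ D →ₐ[R] A}
    (h : ∀ t j, χ (uCoeff F G bM σ D t j) = χ' (uCoeff F G bM σ D t j)) : χ = χ' := by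
  refine IsLocalization.algHom_ext (Submonoid.powers (chartDet F G bM σ D)) ?_
  exact MvPolynomial.algHom_ext fun ⟨t, j⟩ => h t j

lemma exists_chartHom {a : Fin r → Fin k → A} (ha : GoodC F G bM σ D a) :
    ∃ χ : ChartRing F G bM σ D →ₐ[R] A, ∀ t j, χ (uCoeff F G bM σ D t j) = a t j := by
  let ev : MvPolynomial (Fin r × Fin k) R →ₐ[R] A := MvPolynomial.aeval fun p => a p.1 p.2
  have he : (fun t j => ev (genCoeff t j)) = a := by funext t j; simp [ev, genCoeff]
  have hu : ∀ y : Submonoid.powers (chartDet F G bM σ D), IsUnit (ev y) := by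
    rintro ⟨_, e, rfl⟩
    rw [map_pow, chartDet, map_prod]
    refine IsUnit.pow _ (IsUnit.prod_iff.mpr fun i _ => ?_)
    rw [fdet_map, he]
    exact ha i
  refine ⟨IsLocalization.liftAlgHom hu, fun t j => ?_⟩
  exact (IsLocalization.lift_eq _ _).trans (by simp [genCoeff, ev])

variable {S : ∀ (A : Type u) [CommRing A] [Algebra R A], Set (Fin (n + 1) → Pt R M k A)}
variable {X : Over (Spec (CommRingCat.of R))} (hX : SRep R M k (n + 1) S X)

section point

/-- some field point at `p` lies in the chart -/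
def GoodAt (p : X.left) : Prop :=
  ∃ (K : Type u) (_ : Field K) (_ : Algebra R K) (h : Spec (CommRingCat.of K) ⟶ X.left)
    (hh : h ≫ X.hom = str R K), h (IsLocalRing.closedPoint K) = p ∧
      GoodT F G bM σ D (hX.pt h hh)

theorem goodT_pt_iff {K : Type u} [Field K] [Algebra R K] (h : Spec (CommRingCat.of K) ⟶ X.left)
    (hh : h ≫ X.hom = str R K) :
    GoodT F G bM σ D (hX.pt h hh) ↔ GoodAt F G bM σ D hX (h (IsLocalRing.closedPoint K)) := by
  refine ⟨fun hg => ⟨K, inferInstance, inferInstance, h, hh, rfl, hg⟩, ?_⟩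
  rintro ⟨L, _, _, h', hh', hp, hg⟩
  -- both factor through the residue field
  set p := h (IsLocalRing.closedPoint K)
  obtain ⟨⟨x, φ⟩, rfl⟩ := (Scheme.SpecToEquivOfField K X.left).symm.surjective h
  obtain ⟨⟨x', φ'⟩, rfl⟩ := (Scheme.SpecToEquivOfField L X.left).symm.surjective h'
  obtain rfl : x' = x := by
    simpa [p, Scheme.SpecToEquivOfField] using hp
  obtain ⟨iκ, hκ⟩ := exists_algebra_str (R := R) (X.left.fromSpecResidueField x' ≫ X.hom)
  letI := iκ
  have alg : ∀ {E : Type u} [Field E] [Algebra R E] (ψ : X.left.residueField x' ⟶ CommRingCat.of E),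
      (Spec.map ψ ≫ X.left.fromSpecResidueField x') ≫ X.hom = str R E →
      ∀ c, ψ.hom (algebraMap R (X.left.residueField x') c) = algebraMap R E c := by
    intro E _ _ ψ hψ c
    rw [Category.assoc, ← hκ, ← Spec.map_comp] at hψ
    exact RingHom.congr_fun (congrArg CommRingCat.Hom.hom (Spec.map_injective hψ)) c
  let a : X.left.residueField x' →ₐ[R] K := { φ.hom with commutes' := alg φ hh }
  let a' : X.left.residueField x' →ₐ[R] L := { φ'.hom with commutes' := alg φ' hh' }
  have e1 : hX.pt (A := K) _ hh = fun i => GrassLib.gmap a (hX.pt (X.left.fromSpecResidueField x') hκ.symm i) :=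
    funext fun i => hX.pt_comp a _ hκ.symm hh i
  have e2 : hX.pt (A := L) _ hh' = fun i => GrassLib.gmap a' (hX.pt (X.left.fromSpecResidueField x') hκ.symm i) :=
    funext fun i => hX.pt_comp a' _ hκ.symm hh' i
  rw [e2] at hg
  rw [e1]
  exact (goodT_of_gmap_field a' hg).gmap a

theorem goodT_res_iff (h : Spec (CommRingCat.of A) ⟶ X.left) (hh : h ≫ X.hom = str R A)
    (q : PrimeSpectrum A) :
    GoodT F G bM σ D (fun i => GrassLib.gmap (resHom (R := R) q) (hX.pt h hh i)) ↔
      GoodAt F G bM σ D hX (h q) := by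
  have e : (fun i => GrassLib.gmap (resHom (R := R) q) (hX.pt h hh i)) =
      hX.pt (sp (resHom (R := R) q) ≫ h) (SRep.comp_str hh) :=
    funext fun i => (hX.pt_comp _ h hh _ i).symm
  rw [e, goodT_pt_iff, Scheme.Hom.comp_apply]
  have hq : sp (resHom (R := R) q) (IsLocalRing.closedPoint q.asIdeal.ResidueField) = q :=
    comap_resHom (R := R) q _
  rw [hq]

theorem isOpen_goodAt : IsOpen {p : X.left | GoodAt F G bM σ D hX p} := by
  rw [isOpen_iff_forall_mem_open]
  intro p hp
  obtain ⟨_, ⟨U, hU, rfl⟩, hpU, -⟩ :=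
    X.left.isBasis_affineOpens.exists_subset_of_mem_open (Set.mem_univ p) isOpen_univ
  obtain ⟨iA, hA⟩ := exists_algebra_str (R := R) (hU.fromSpec ≫ X.hom)
  letI := iA
  obtain ⟨q, rfl⟩ : ∃ q, hU.fromSpec q = p := by
    have : p ∈ Set.range hU.fromSpec := by rw [hU.range_fromSpec]; exact hpU
    exact this
  obtain ⟨f, hf, hgood⟩ := exists_nhd_goodT q
    ((goodT_res_iff F G bM σ D hX (A := Γ(X.left, U)) hU.fromSpec hA.symm q).mpr hp)
  refine ⟨hU.fromSpec '' {q' | f ∉ q'.asIdeal}, ?_, ?_, ⟨q, hf, rfl⟩⟩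
  · rintro _ ⟨q', hq', rfl⟩
    exact (goodT_res_iff F G bM σ D hX (A := Γ(X.left, U)) hU.fromSpec hA.symm q').mp (hgood q' hq')
  · exact hU.fromSpec.isOpenEmbedding.isOpenMap _ (PrimeSpectrum.basicOpen f).isOpen

/-- the open set of a chart -/
noncomputable def chartOpen : X.left.Opens :=
  ⟨{p | GoodAt F G bM σ D hX p}, isOpen_goodAt F G bM σ D hX⟩

end point

variable {s : R} (hrel : Rel F G s n)
  (hS : ∀ (A : Type u) [CommRing A] [Algebra R A] (N : Fin (n + 1) → Pt R M k A),
    N ∈ S A ↔ LinkedT F G N)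

/-- the morphism from the chart -/
noncomputable def chartMap : Spec (CommRingCat.of (ChartRing F G bM σ D)) ⟶ X.left :=
  hX.mor (goodC_uCoeff F G bM σ D).point ((hS _ _).mpr ((goodC_uCoeff F G bM σ D).linked hrel))

lemma chartMap_str :
    chartMap F G bM σ D hX hrel hS ≫ X.hom = str R (ChartRing F G bM σ D) := hX.mor_str _ _

include hrel hS in
theorem isOpenImmersion_chartMap :
    IsOpenImmersion (chartMap F G bM σ D hX hrel hS) ∧
      Set.range (chartMap F G bM σ D hX hrel hS) = (chartOpen F G bM σ D hX : Set X.left) := by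
  set ι := chartMap F G bM σ D hX hrel hS with hι
  set u := uCoeff F G bM σ D
  have hu := goodC_uCoeff F G bM σ D
  have hptι : hX.pt ι (chartMap_str F G bM σ D hX hrel hS) = hu.point := hX.pt_mor _ _
  refine isOpenImmersion_of_bijective ι _ ?_ ?_ ?_
  · rintro _ ⟨q, rfl⟩
    refine (goodT_res_iff F G bM σ D hX ι (chartMap_str F G bM σ D hX hrel hS) q).mp ?_
    rw [hptι]
    exact hu.goodT.gmap _
  · intro C g g' hgg
    obtain ⟨iC, hC⟩ := exists_algebra_str (R := R) ((g ≫ ι) ≫ X.hom)
    letI := iC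
    have hg : g ≫ str R (ChartRing F G bM σ D) = str R C := by
      rw [← chartMap_str F G bM σ D hX hrel hS, ← Category.assoc]; exact hC.symm
    have hg' : g' ≫ str R (ChartRing F G bM σ D) = str R C := by
      rw [← chartMap_str F G bM σ D hX hrel hS, ← Category.assoc, ← hgg]; exact hC.symm
    obtain ⟨χ, rfl⟩ := exists_sp (R := R) hg
    obtain ⟨χ', rfl⟩ := exists_sp (R := R) hg'
    rw [hι, chartMap, hX.sp_mor, hX.sp_mor] at hgg
    have hpt := hX.mor_injective hgg
    have key : ∀ χ : ChartRing F G bM σ D →ₐ[R] C,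
        coeffs D (fun i => (hu.inChart i).gmap χ) = fun t j => χ (u t j) := fun χ => by
      rw [coeffs_map hu.inChart, hu.coeffs_point]
    refine congrArg _ (algHom_ext_chart F G bM σ D fun t j => ?_)
    have h1 := key χ
    have h2 := key χ'
    have h3 : coeffs D (fun i => (hu.inChart i).gmap χ) = coeffs D (fun i => (hu.inChart i).gmap χ') := by
      funext t
      simp only [coeffs]
      congr 2
      simp only [congrFun hpt (D.c t)]
    exact congrFun (congrFun (h1.symm.trans (h3.trans h2)) t) j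
  · intro C h hh
    obtain ⟨iC, hC⟩ := exists_algebra_str (R := R) (h ≫ X.hom)
    letI := iC
    have hg : GoodT F G bM σ D (hX.pt h hC.symm) := goodT_of_forall_res fun q =>
      (goodT_res_iff F G bM σ D hX (A := C) h hC.symm q).mpr (hh ⟨q, rfl⟩)
    obtain ⟨hin, hgood⟩ := hg
    obtain ⟨χ, hχ⟩ := exists_chartHom F G bM σ D hgood
    refine ⟨sp χ, ?_⟩
    rw [hι, chartMap, hX.sp_mor]
    refine (hX.mor_congr ?_ _ (hX.pt_mem _ _)).trans (hX.mor_pt h hC.symm)
    have hlink : LinkedT F G (hX.pt h hC.symm) := (hS C _).mp (hX.pt_mem _ _)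
    have hlink' : LinkedT F G (fun i => GrassLib.gmap χ (hu.point i)) := (hu.linked hrel).gmap F G χ
    have hc : coeffs D (fun i => (hu.inChart i).gmap χ) = coeffs D hin := by
      rw [coeffs_map hu.inChart, hu.coeffs_point]
      funext t j
      exact hχ t j
    exact GoodT.ext (F := F) (G := G) (bM := bM) (σ := σ) hlink' hlink _ hin (hc ▸ hgood) hc

end Groth.Agent.LG29
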