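import Groth.Agent.Lib.LG29.Field

/-!
Linked tuples over a field as specialisations of exact ones.
-/

set_option autoImplicit false
set_option backward.isDefEq.respectTransparency false
universe u

open TensorProduct Module

namespace Groth.Agent.LG29

open GrassLib

variable {R : Type u} [CommRing R] {M : Type u} [AddCommGroup M] [Module R M] {d r k n : ℕ}
variable {A B : Type u} [CommRing A] [Algebra R A] [CommRing B] [Algebra R B]
variable (bM : Basis (Fin d) R M) (σ : Fin d ≃ Fin r ⊕ Fin k)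

/-- determinant of vectors completed by elements of `M` -/
noncomputable def splitDet (x : Fin k → M) (u : Fin r → A ⊗[R] M) : A :=
  ((bM.baseChange A).reindex σ).det (Sum.elim u fun j => (1 : A) ⊗ₜ[R] x j)

lemma splitDet_map (φ : A →ₐ[R] B) (x : Fin k → M) (u : Fin r → A ⊗[R] M) :
    φ (splitDet bM σ x u) = splitDet bM σ x (fun t => tm φ (u t)) := by
  rw [splitDet, splitDet, Basis.det_apply, Basis.det_apply, AlgHom.map_det]
  congr 1
  ext p q
  simp only [AlgHom.mapMatrix_apply, Matrix.map_apply, Basis.toMatrix_apply, Basis.repr_reindex,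
    Finsupp.mapDomain_equiv_apply]
  rw [← repr_tm]
  rcases q with t | j <;> simp

theorem exists_point_of_split {x : Fin k → M} {u : Fin r → A ⊗[R] M}
    (h : IsUnit (splitDet bM σ x u)) :
    ∃ N : Pt R M k A, N.toSubmodule = Submodule.span A (Set.range u) := by
  let b : Basis (Fin r ⊕ Fin k) A (A ⊗[R] M) :=
    Basis.mk ((Basis.is_basis_iff_det _).mpr h).1 ((Basis.is_basis_iff_det _).mpr h).2.ge
  have hb : ∀ y, b y = Sum.elim u (fun j => (1 : A) ⊗ₜ[R] x j) y := fun y => Basis.mk_apply _ _ y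
  let co : A ⊗[R] M →ₗ[A] Fin k → A := LinearMap.pi fun j => b.coord (Sum.inr j)
  let ℓ : M →ₗ[R] Fin k → A := co.restrictScalars R ∘ₗ TensorProduct.mk R A M 1
  have hℓ : ∀ j, ℓ (x j) = Pi.single j 1 := fun j => by
    have e : (1 : A) ⊗ₜ[R] x j = b (Sum.inr j) := by rw [hb]; rfl
    funext j'
    simp [ℓ, co, e, Pi.single_apply, Finsupp.single_apply, eq_comm]
  have hlift : ℓ.liftBaseChange A = co := by ext m j; simp [ℓ]
  refine ⟨ofEll x ℓ hℓ, ?_⟩
  rw [ofEll_toSubmodule, hlift]
  refine le_antisymm (fun v hv => ?_) (Submodule.span_le.mpr ?_)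
  · rw [← b.sum_repr v, Fintype.sum_sum_type]
    refine add_mem (sum_mem fun t _ => ?_) (sum_mem fun j _ => ?_)
    · rw [hb]
      exact Submodule.smul_mem _ _ (Submodule.subset_span ⟨t, rfl⟩)
    · have := congrFun (LinearMap.mem_ker.mp hv) j
      simp only [co, LinearMap.pi_apply, Basis.coord_apply, Pi.zero_apply] at this
      rw [this, zero_smul]
      exact zero_mem _
  · rintro _ ⟨t, rfl⟩
    simp only [SetLike.mem_coe, LinearMap.mem_ker]
    funext j
    have e : u t = b (Sum.inl t) := by rw [hb]; rfl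
    simp [co, e]

variable {bM σ} {F G : ℕ → M →ₗ[R] M}
variable {K : Type u} [Field K] [Algebra R K]

theorem tm_span {u : Fin r → A ⊗[R] M} (φ : A →ₐ[R] B) {N : Pt R M k A}
    (h : N.toSubmodule = Submodule.span A (Set.range u)) :
    (GrassLib.gmap φ N).toSubmodule = Submodule.span B (Set.range fun t => tm φ (u t)) := by
  rw [gmap_eq_span, h]
  refine le_antisymm (Submodule.span_le.mpr ?_) (Submodule.span_mono ?_)
  · rintro _ ⟨v, hv, rfl⟩
    simp only [SetLike.mem_coe] at hv ⊢
    induction hv using Submodule.span_induction with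
    | mem y hy =>
      obtain ⟨t, rfl⟩ := hy
      exact Submodule.subset_span ⟨t, rfl⟩
    | zero => simp
    | add p q _ _ hp hq => rw [map_add]; exact add_mem hp hq
    | smul c p _ hp => rw [tm_smul]; exact Submodule.smul_mem _ _ hp
  · rintro _ ⟨t, rfl⟩
    exact ⟨u t, Submodule.subset_span ⟨t, rfl⟩, rfl⟩

/-- a one parameter deformation along a curve -/
theorem exists_deformation_of_curve {s : R} (hrel : Rel F G s n) (hyp : FibHyp F G s n)
    (hs : algebraMap R K s = 0)
    {N : Fin (n + 1) → Pt R M k K} {lev : Fin r → ℕ} {w0 w1 : ℕ → Fin r → K ⊗[R] M}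
    {e0 e1 : Fin r → K ⊗[R] M} (hc : Curve (bc K F) (bc K G) n lev w0 w1 e0 e1)
    (hw0 : ∀ i, i ≤ n → subs N i = Submodule.span K (Set.range (w0 i)))
    (bM : Basis (Fin d) R M) (σ : Fin d ≃ Fin r ⊕ Fin k) :
    ∃ (A : Type u) (_ : CommRing A) (_ : Algebra R A) (L : Type u) (_ : Field L) (_ : Algebra R L)
      (ε : A →ₐ[R] K) (η : A →ₐ[R] L) (NT : Fin (n + 1) → Pt R M k A) (D : Ix M r k n),
      Function.Injective η ∧ LinkedT F G NT ∧ (∀ i, GrassLib.gmap ε (NT i) = N i) ∧
      GoodT F G bM σ D (fun i => GrassLib.gmap η (NT i)) ∧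
      ∀ i, i < n → Fintype.card {t // (D.c t : ℕ) ≤ i} = Fintype.card {t // lev t ≤ i} := by
  classical
  haveI : Module.Finite K (K ⊗[R] M) := Module.Finite.of_basis (bM.baseChange K)
  have hd : d = r + k := by simpa using Fintype.card_congr σ
  obtain ⟨x, hx⟩ := exists_complements N bM σ
  let ι : K →ₐ[R] Polynomial K := IsScalarTower.toAlgHom R K (Polynomial K)
  let U : ℕ → Fin r → Polynomial K ⊗[R] M := fun i t =>
    tm ι (w0 i t) + (Polynomial.X : Polynomial K) • tm ι (w1 i t)
  let ev : Polynomial K →ₐ[R] K := (Polynomial.aeval (0 : K)).restrictScalars R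
  have evι : ev.comp ι = AlgHom.id R K := AlgHom.ext fun c => by simp [ev, ι]
  have tm_comp' : ∀ {P Q : Type u} [CommRing P] [Algebra R P] [CommRing Q] [Algebra R Q]
      (φ : K →ₐ[R] P) (ψ : P →ₐ[R] Q) (v : K ⊗[R] M), tm ψ (tm φ v) = tm (ψ.comp φ) v := by
    intro P Q _ _ _ _ φ ψ v
    rw [← LinearMap.comp_apply, ← LinearMap.rTensor_comp]
    rfl
  have hev : ∀ i t, tm ev (U i t) = w0 i t := fun i t => by
    simp only [U, map_add, tm_smul, tm_comp', evι]
    have hid : tm (AlgHom.id R K) (w0 i t) = w0 i t := by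
      show LinearMap.rTensor M (LinearMap.id : K →ₗ[R] K) (w0 i t) = _
      exact LinearMap.rTensor_id_apply M K _
    simp [ev, hid]
  let δ : Polynomial K := ∏ i : Fin (n + 1), splitDet bM σ (x i) (U i)
  have hδ0 : ev δ ≠ 0 := by
    rw [map_prod, Finset.prod_ne_zero_iff]
    intro i _
    rw [splitDet_map, show (fun t => tm ev (U i t)) = w0 i from funext fun t => hev i t, splitDet,
      ← isUnit_iff_ne_zero, ← Basis.is_basis_iff_det]
    have htop : ⊤ ≤ Submodule.span K (Set.range (Sum.elim (w0 i) fun j => (1 : K) ⊗ₜ[R] x i j)) := by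
      rw [Set.Sum.elim_range, Submodule.span_union, ← hw0 i (Nat.le_of_lt_succ i.2), subs_val,
        (hx i).2]
    exact ⟨linearIndependent_of_top_le_span_of_card_eq_finrank htop (by
      rw [Module.finrank_eq_card_basis (bM.baseChange K), Fintype.card_fin, ← Fintype.card_congr σ,
        Fintype.card_fin]), top_le_iff.mp htop⟩
  have hδne : δ ≠ 0 := fun h => hδ0 (by rw [h, map_zero])
  let A := Localization.Away δ
  let ψ : Polynomial K →ₐ[R] A := IsScalarTower.toAlgHom R (Polynomial K) A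
  have hdom : IsDomain A :=
    IsLocalization.isDomain_localization (powers_le_nonZeroDivisors_of_noZeroDivisors hδne)
  have huA : ∀ i : Fin (n + 1), IsUnit (splitDet bM σ (x i) (fun t => tm ψ (U i t))) := fun i => by
    rw [← splitDet_map]
    have hu : IsUnit (∏ i : Fin (n + 1), ψ (splitDet bM σ (x i) (U i))) := by
      rw [← map_prod]; exact IsLocalization.Away.algebraMap_isUnit (S := A) δ
    exact IsUnit.prod_iff.mp hu i (Finset.mem_univ i)
  choose NT hNT using fun i => exists_point_of_split bM σ (huA i)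
  have huev : ∀ y : Submonoid.powers δ, IsUnit (ev y) := by
    rintro ⟨_, e, rfl⟩
    rw [map_pow]
    exact (isUnit_iff_ne_zero.mpr hδ0).pow e
  let ε : A →ₐ[R] K := IsLocalization.liftAlgHom huev
  have hεψ : ε.comp ψ = ev := AlgHom.ext fun z => IsLocalization.lift_eq _ z
  let L := FractionRing A
  let η : A →ₐ[R] L := IsScalarTower.toAlgHom R A L
  have hη : Function.Injective η := IsFractionRing.injective A L
  have hsub : ∀ {i : ℕ} (hi : i ≤ n), (NT ⟨i, by omega⟩).toSubmodule =
      Submodule.span A (Set.range fun t => tm ψ (U i t)) := fun {i} hi => hNT ⟨i, by omega⟩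
  -- linked
  have hstep : ∀ (H : ℕ → M →ₗ[R] M) (i : ℕ) (a0 a1 b0 b1 : K ⊗[R] M),
      Step (bc K H i) a0 a1 b0 b1 →
      ∃ c : A, bc A H i (tm ψ (tm ι a0 + (Polynomial.X : Polynomial K) • tm ι a1)) =
        c • tm ψ (tm ι b0 + (Polynomial.X : Polynomial K) • tm ι b1) := by
    intro H i a0 a1 b0 b1 hst
    simp only [map_add, tm_smul, map_smul, ← rTensor_bc]
    rcases hst with ⟨p, q⟩ | ⟨p, q⟩ | ⟨p, q, e⟩
    · exact ⟨0, by simp [p, q]⟩
    · exact ⟨1, by simp [p, q]⟩
    · exact ⟨ψ Polynomial.X, by simp [p, q, e]⟩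
  have hlinked : LinkedT F G NT := by
    intro i hi
    rw [subs_val NT ⟨i, by omega⟩, subs_val NT ⟨i + 1, by omega⟩, hsub hi.le, hsub hi]
    constructor <;> rw [Submodule.map_span_le] <;> rintro _ ⟨t, rfl⟩
    · obtain ⟨c, hc'⟩ := hstep F i _ _ _ _ (hc.stepF i hi t)
      rw [hc']
      exact Submodule.smul_mem _ _ (Submodule.subset_span ⟨t, rfl⟩)
    · obtain ⟨c, hc'⟩ := hstep G i _ _ _ _ (hc.stepG i hi t)
      rw [hc']
      exact Submodule.smul_mem _ _ (Submodule.subset_span ⟨t, rfl⟩)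
  have hspec : ∀ i, GrassLib.gmap ε (NT i) = N i := fun i => by
    refine Module.Grassmannian.ext ?_
    rw [tm_span ε (hNT i), ← subs_val N i, hw0 i (Nat.le_of_lt_succ i.2)]
    congr 2
    funext t
    rw [← hev i t, ← hεψ]
    rw [← LinearMap.comp_apply, ← LinearMap.rTensor_comp]
    rfl
  -- generic member
  let κ : K →ₐ[R] L := η.comp (ψ.comp ι)
  have hX : η (ψ Polynomial.X) ≠ 0 := by
    rw [Ne, map_eq_zero_iff η hη]
    intro h0
    have hinj : Function.Injective (algebraMap (Polynomial K) A) :=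
      IsLocalization.injective A (powers_le_nonZeroDivisors_of_noZeroDivisors hδne)
    exact Polynomial.X_ne_zero (hinj (h0.trans (map_zero _).symm))
  let N' := fun i => GrassLib.gmap η (NT i)
  have hN' : LinkedT F G N' := hlinked.gmap F G η
  let e : Fin r → L ⊗[R] M := fun t => tm κ (e0 t) + η (ψ Polynomial.X) • tm κ (e1 t)
  have hU : ∀ i t, tm η (tm ψ (U i t)) = tm κ (w0 i t) + η (ψ Polynomial.X) • tm κ (w1 i t) := by
    intro i t
    simp only [U, κ, map_add, tm_smul, tm_comp', AlgHom.comp_assoc]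
  have hgen : ∀ i, i ≤ n → subs N' i =
      Submodule.span L (Set.range fun t => phi (bc L F) (bc L G) (lev t) i (e t)) := by
    intro i hi
    rw [show subs N' i = (N' ⟨i, by omega⟩).toSubmodule from subs_val N' ⟨i, by omega⟩,
      tm_span η (hsub hi)]
    have key : ∀ t, ∃ c : L, c ≠ 0 ∧ phi (bc L F) (bc L G) (lev t) i (e t) = c • tm η (tm ψ (U i t)) := by
      intro t
      simp only [e, map_add, map_smul, ← rTensor_phi, hU]
      rcases hc.gen i hi t with ⟨p, q⟩ | ⟨p, q, e'⟩
      · exact ⟨1, one_ne_zero, by rw [p, q, one_smul]⟩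
      · exact ⟨_, hX, by simp [p, q, e']⟩
    choose c hc0 hceq using key
    refine le_antisymm (Submodule.span_le.mpr ?_) (Submodule.span_le.mpr ?_)
    · rintro _ ⟨t, rfl⟩
      show tm η (tm ψ (U i t)) ∈ _
      rw [show tm η (tm ψ (U i t)) = (c t)⁻¹ • phi (bc L F) (bc L G) (lev t) i (e t) by
        rw [hceq t, smul_smul, inv_mul_cancel₀ (hc0 t), one_smul]]
      exact Submodule.smul_mem _ _ (Submodule.subset_span ⟨t, rfl⟩)
    · rintro _ ⟨t, rfl⟩
      show phi (bc L F) (bc L G) (lev t) i (e t) ∈ _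
      rw [hceq t]
      exact Submodule.smul_mem _ _ (Submodule.subset_span ⟨t, rfl⟩)
  have hsL : algebraMap R L s = 0 := by rw [← κ.commutes, hs, map_zero]
  have hfr : ∀ i, i ≤ n → finrank L (subs N' i) = r := fun i hi => finrank_sub (bM := bM) (σ := σ) N' hi
  haveI : Module.Finite L (L ⊗[R] M) := Module.Finite.of_basis (bM.baseChange L)
  have hex := exact_of_gen (hyp L hsL) (Fintype.card_fin r) hN' hfr lev e hgen
  obtain ⟨D, hD⟩ := exists_chart_of_exact hrel hyp hN' bM σ hex
  refine ⟨A, inferInstance, inferInstance, L, inferInstance, inferInstance, ε, η, NT, D, hη, hlinked,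
    hspec, hD, fun i hi => ?_⟩
  rw [← (exact_of_goodT hrel hyp hN' hD).2 hsL i hi,
    (finrank_map_F_of_gen (hyp L hsL) (Fintype.card_fin r) hfr lev e hgen hi).1]

theorem exists_deformations {s : R} (hrel : Rel F G s n) (hyp : FibHyp F G s n)
    {N : Fin (n + 1) → Pt R M k K} (hN : LinkedT F G N) (hs : algebraMap R K s = 0)
    (bM : Basis (Fin d) R M) (σ : Fin d ≃ Fin r ⊕ Fin k) :
    ∃ lA lB : Fin r → ℕ,
      (∀ l ∈ ({lA, lB} : Set (Fin r → ℕ)), ∃ (A : Type u) (_ : CommRing A) (_ : Algebra R A) (L : Type u)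
        (_ : Field L) (_ : Algebra R L)
        (ε : A →ₐ[R] K) (η : A →ₐ[R] L) (NT : Fin (n + 1) → Pt R M k A) (D : Ix M r k n),
        Function.Injective η ∧ LinkedT F G NT ∧ (∀ i, GrassLib.gmap ε (NT i) = N i) ∧
        GoodT F G bM σ D (fun i => GrassLib.gmap η (NT i)) ∧
        ∀ i, i < n → Fintype.card {t // (D.c t : ℕ) ≤ i} = Fintype.card {t // l t ≤ i}) ∧
      (¬ Exact (bc K F) (bc K G) n (subs N) → ∃ i, i < n ∧
        Fintype.card {t // lA t ≤ i} ≠ Fintype.card {t // lB t ≤ i}) := by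
  classical
  haveI : Module.Finite K (K ⊗[R] M) := Module.Finite.of_basis (bM.baseChange K)
  have hfr : ∀ i, i ≤ n → finrank K (subs N i) = r := fun i hi => finrank_sub (bM := bM) (σ := σ) N hi
  obtain ⟨ι, _, lA, lB, w0, wA, wB, eA0, eA1, eB0, eB1, hcard, hw0, hcA, hcB, hcount, -⟩ :=
    exists_adapted (hyp K hs) hN hfr (fun i => (subs N i : Set (K ⊗[R] M))) (fun _ _ => subset_rfl)
      (fun i _ => by rw [Submodule.span_eq])
  let τ : Fin r ≃ ι := (Fintype.equivFinOfCardEq hcard).symm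
  have hw0' : ∀ i, i ≤ n → subs N i = Submodule.span K (Set.range (w0 i ∘ τ)) := fun i hi => by
    rw [hw0 i hi, τ.surjective.range_comp]
  have hcard' : ∀ (l : ι → ℕ) i, Fintype.card {t // (l ∘ τ) t ≤ i} = Fintype.card {x // l x ≤ i} :=
    fun l i => Fintype.card_congr (τ.subtypeEquiv fun t => Iff.rfl)
  refine ⟨lA ∘ τ, lB ∘ τ, ?_, fun hne => ?_⟩
  · rintro l (rfl | rfl)
    · exact exists_deformation_of_curve hrel hyp hs (w1 := fun i => wA i ∘ τ) (e0 := eA0 ∘ τ)
        (e1 := eA1 ∘ τ)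
        ⟨fun t => hcA.lev_le _, fun i hi t => hcA.stepF i hi _, fun i hi t => hcA.stepG i hi _,
          fun i hi t => hcA.gen i hi _⟩ hw0' bM σ
    · exact exists_deformation_of_curve hrel hyp hs (w1 := fun i => wB i ∘ τ) (e0 := eB0 ∘ τ)
        (e1 := eB1 ∘ τ)
        ⟨fun t => hcB.lev_le _, fun i hi t => hcB.stepF i hi _, fun i hi t => hcB.stepG i hi _,
          fun i hi t => hcB.gen i hi _⟩ hw0' bM σ
  · by_contra hall
    push Not at hall
    refine hne (((hyp K hs).exact_iff hN hfr).mpr fun i hi => ?_)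
    have := hall i hi
    rw [hcard', hcard'] at this
    obtain ⟨h1, h2⟩ := hcount i hi
    omega

end Groth.Agent.LG29
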