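import Groth.Agent.Lib.LG29.Global

/-!
The charts over a field are smooth of dimension `r * k`.
-/

set_option autoImplicit false
set_option backward.isDefEq.respectTransparency false
universe u

open TensorProduct Module CategoryTheory Limits AlgebraicGeometry TopologicalSpace

namespace Groth.Agent.LG29

open GrassLib

variable {R : Type u} [Field R] {M : Type u} [AddCommGroup M] [Module R M] {d r k n : ℕ}
variable (F G : ℕ → M →ₗ[R] M) (bM : Basis (Fin d) R M) (σ : Fin d ≃ Fin r ⊕ Fin k)
variable {S : ∀ (A : Type u) [CommRing A] [Algebra R A], Set (Fin (n + 1) → Pt R M k A)}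
variable {X : Over (Spec (CommRingCat.of R))} (hX : SRep R M k (n + 1) S X)
variable {s : R} (hrel : Rel F G s n) (hyp : FibHyp F G s n)
  (hS : ∀ (A : Type u) [CommRing A] [Algebra R A] (N : Fin (n + 1) → Pt R M k A),
    N ∈ S A ↔ LinkedT F G N)

instance (D : Ix M r k n) : Algebra.Smooth R (ChartRing F G bM σ D) :=
  haveI : Algebra.Smooth (MvPolynomial (Fin r × Fin k) R) (ChartRing F G bM σ D) :=
    Algebra.Smooth.of_isLocalization_Away (chartDet F G bM σ D)
  haveI : Algebra.Smooth R (MvPolynomial (Fin r × Fin k) R) :=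
    ⟨inferInstance, inferInstance⟩
  Algebra.Smooth.comp R (MvPolynomial (Fin r × Fin k) R) _

theorem smooth_str (A : Type u) [CommRing A] [Algebra R A] [Algebra.Smooth R A] : Smooth (str R A) := by
  rw [str, HasRingHomProperty.Spec_iff (P := @Smooth)]
  show RingHom.Smooth (algebraMap R A)
  rw [RingHom.smooth_algebraMap]
  infer_instance

include hrel hS in
theorem formallySmooth_stalkMap [LocallyOfFinitePresentation X.hom] {D : Ix M r k n} {p : X.left}
    (hp : GoodAt F G bM σ D hX p) : (X.hom.stalkMap p).hom.FormallySmooth := by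
  obtain ⟨hopen, hr⟩ := isOpenImmersion_chartMap F G bM σ D hX hrel hS
  obtain ⟨q, rfl⟩ : p ∈ Set.range (chartMap F G bM σ D hX hrel hS) := by rw [hr]; exact hp
  haveI : Smooth (chartMap F G bM σ D hX hrel hS ≫ X.hom) := by
    rw [chartMap_str]; exact smooth_str _
  have h : q ∈ (chartMap F G bM σ D hX hrel hS) ⁻¹ᵁ X.hom.smoothLocus := by
    rw [Scheme.Hom.preimage_smoothLocus_eq, Scheme.Hom.smoothLocus_eq_top]
    trivial
  exact h

theorem dim_spec_mvPolynomial (m : Type) [Fintype m] :
    topologicalKrullDim (Spec (CommRingCat.of (MvPolynomial m R))) = (Fintype.card m : WithBot ℕ∞) := by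
  refine (PrimeSpectrum.topologicalKrullDim_eq_ringKrullDim (MvPolynomial m R)).trans ?_
  rw [MvPolynomial.ringKrullDim_of_isNoetherianRing, ringKrullDim_eq_zero_of_field, zero_add,
    Nat.card_eq_fintype_card]

include hrel hyp hS bM σ hX in
theorem dim_component [LocallyOfFiniteType X.hom] {Z : Set X.left} (hZ : Z ∈ irreducibleComponents X.left) :
    topologicalKrullDim Z = ((r * k : ℕ) : WithBot ℕ∞) := by
  obtain ⟨D, hne, -⟩ := exists_chart_of_component F G bM σ hX hrel hyp hS hZ
  set ι := chartMap F G bM σ D hX hrel hS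
  obtain ⟨hopen, hr⟩ := isOpenImmersion_chartMap F G bM σ D hX hrel hS
  have hΔ := chartDet_ne_zero F G bM σ hX hrel hS (hne.mono Set.inter_subset_right)
  haveI hdom : IsDomain (ChartRing F G bM σ D) :=
    IsLocalization.isDomain_localization (powers_le_nonZeroDivisors_of_noZeroDivisors hΔ)
  let P := CommRingCat.of (MvPolynomial (Fin r × Fin k) R)
  let j : Spec (CommRingCat.of (ChartRing F G bM σ D)) ⟶ Spec P :=
    Spec.map (CommRingCat.ofHom (algebraMap (MvPolynomial (Fin r × Fin k) R) (ChartRing F G bM σ D)))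
  haveI : IsOpenImmersion j := IsOpenImmersion.of_isLocalization (chartDet F G bM σ D)
  let fP : Spec P ⟶ Spec (CommRingCat.of R) := str R (MvPolynomial (Fin r × Fin k) R)
  haveI : LocallyOfFiniteType fP := by
    rw [HasRingHomProperty.Spec_iff (P := @LocallyOfFiniteType)]
    show RingHom.FiniteType (algebraMap R (MvPolynomial (Fin r × Fin k) R))
    rw [RingHom.finiteType_algebraMap]
    infer_instance
  have hcomm : j ≫ fP = ι ≫ X.hom := by
    rw [chartMap_str, str, ← Spec.map_comp]
    rfl
  have e1 := VarDim.dim_eq_sdim_genericPoint fP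
  rw [dim_spec_mvPolynomial, Fintype.card_prod, Fintype.card_fin, Fintype.card_fin] at e1
  have hgen : j (genericPoint (Spec (CommRingCat.of (ChartRing F G bM σ D)))) = genericPoint (Spec P) :=
    genericPoint_eq_of_isOpenImmersion j
  have e2 := VarDim.sdim_comp_of_surjective (f := fP) j (genericPoint _)
  have e3 := VarDim.sdim_comp_of_surjective (f := X.hom) ι (genericPoint _)
  rw [hgen] at e2
  have e4 : ∀ z, VarDim.sdim (j ≫ fP) z = VarDim.sdim (ι ≫ X.hom) z := fun z => by rw [hcomm]
  -- the image of the generic point is generic in the component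
  have hZc := isClosed_of_mem_irreducibleComponents Z hZ
  have hgz : IsGenericPoint (ι (genericPoint _)) (closure (Set.range ι)) := by
    rw [isGenericPoint_def]
    refine subset_antisymm (closure_mono (Set.singleton_subset_iff.mpr ⟨_, rfl⟩))
      (closure_minimal ?_ isClosed_closure)
    rintro _ ⟨z, rfl⟩
    exact specializes_iff_mem_closure.mp ((genericPoint_specializes z).map ι.continuous)
  have hZeq := eq_closure_of_mem F G bM σ hX hrel hS hZ hne
  rw [← hr] at hZeq
  rw [hZeq, ← hgz.def, VarDim.dim_closure_singleton X.hom, ← e3, ← e4, e2, ← e1]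

end Groth.Agent.LG29
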