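import Groth.Agent.Lib.LG29.Adapted
import Groth.Agent.Lib.LG29.Chart

/-!
Field-valued linked tuples: exact ones lie in charts, the others deform to exact ones in two ways.
-/

set_option autoImplicit false
set_option backward.isDefEq.respectTransparency false
universe u

open TensorProduct Module

namespace Groth.Agent.LG29

open GrassLib

variable {R : Type u} [CommRing R] {M : Type u} [AddCommGroup M] [Module R M] {d r k n : ℕ}
variable (F G : ℕ → M →ₗ[R] M) (bM : Basis (Fin d) R M) (σ : Fin d ≃ Fin r ⊕ Fin k)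

/-- the conditions at all fields over which the scalar vanishes -/
def FibHyp (s : R) (n : ℕ) : Prop :=
  ∀ (K : Type u) [Field K] [Algebra R K], algebraMap R K s = 0 → Hyp (bc K F) (bc K G) n

variable {F G bM σ}
variable {K : Type u} [Field K] [Algebra R K]

include bM σ in
theorem finrank_sub (N : Fin (n + 1) → Pt R M k K) {i : ℕ} (hi : i ≤ n) :
    finrank K (subs N i) = r := by
  have hd : d = r + k := by simpa using Fintype.card_congr σ
  haveI : Module.Finite K (K ⊗[R] M) := Module.Finite.of_basis (bM.baseChange K)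
  have h1 := (subs N i).finrank_quotient_add_finrank
  have h2 : finrank K (K ⊗[R] M) = d := by
    rw [Module.finrank_eq_card_basis (bM.baseChange K), Fintype.card_fin]
  have h3 : finrank K ((K ⊗[R] M) ⧸ subs N i) = k := by
    rw [show subs N i = (N ⟨i, by omega⟩).toSubmodule from subs_val N ⟨i, by omega⟩]
    have q : PrimeSpectrum K := ⟨⊥, Ideal.isPrime_bot⟩
    have h := (N ⟨i, by omega⟩).rankAtStalk_eq q
    rwa [rankAtStalk_eq_finrank_of_free, Pi.natCast_apply, Nat.cast_id] at h
  omega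

/-- complements from the given basis, and spanning sets adapted to them -/
theorem exists_complements (N : Fin (n + 1) → Pt R M k K) (bM : Basis (Fin d) R M)
    (σ : Fin d ≃ Fin r ⊕ Fin k) : ∃ x : Fin (n + 1) → Fin k → M, ∀ i,
      InChart (x i) (N i) ∧
      (N i).toSubmodule ⊔ Submodule.span K (Set.range fun j => (1 : K) ⊗ₜ[R] x i j) = ⊤ := by
  haveI : Module.Finite K (K ⊗[R] M) := Module.Finite.of_basis (bM.baseChange K)
  have hd : d = r + k := by simpa using Fintype.card_congr σ
  have h : ∀ i : Fin (n + 1), ∃ v : Fin k → K ⊗[R] M,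
      (∀ j, v j ∈ Set.range fun a => (1 : K) ⊗ₜ[R] bM a) ∧
      (N i).toSubmodule ⊔ Submodule.span K (Set.range v) = ⊤ := by
    intro i
    refine exists_completion le_top (Set.subset_univ _) ?_ ?_
    · refine le_trans (le_of_eq ?_) le_sup_right
      rw [← (bM.baseChange K).span_eq]
      congr 2
      ext a
      simp
    · rw [finrank_top, Module.finrank_eq_card_basis (bM.baseChange K), Fintype.card_fin,
        ← subs_val N i, finrank_sub (bM := bM) (σ := σ) N (Nat.le_of_lt_succ i.2)]
      omega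
  choose v hv hvtop using h
  choose a ha using hv
  refine ⟨fun i j => bM (a i j), fun i => ?_⟩
  have e : (fun j => (1 : K) ⊗ₜ[R] bM (a i j)) = v i := funext fun j => ha i j
  refine ⟨?_, by rw [e]; exact hvtop i⟩
  rw [inChart_iff]
  intro z
  obtain ⟨y, hy, w, hw, rfl⟩ := Submodule.mem_sup.mp (hvtop i ▸ Submodule.mem_top (x := z))
  rw [← e] at hw
  obtain ⟨c, rfl⟩ := (Submodule.mem_span_range_iff_exists_fun K).mp hw
  refine ⟨c, ?_⟩
  rw [show lc K (fun j => bM (a i j)) c = ∑ j, c j • (1 : K) ⊗ₜ[R] bM (a i j) by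
    simp [lc, Fintype.linearCombination_apply]]
  simpa using hy

/-- exact tuples lie in a chart -/
theorem exists_chart_of_exact {s : R} (hrel : Rel F G s n) (hyp : FibHyp F G s n)
    {N : Fin (n + 1) → Pt R M k K} (hN : LinkedT F G N) (bM : Basis (Fin d) R M)
    (σ : Fin d ≃ Fin r ⊕ Fin k) (hex : Exact (bc K F) (bc K G) n (subs N)) :
    ∃ D : Ix M r k n, GoodT F G bM σ D N := by
  haveI : Module.Finite K (K ⊗[R] M) := Module.Finite.of_basis (bM.baseChange K)
  obtain ⟨x, hx⟩ := exists_complements N bM σ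
  let h : ∀ i, InChart (x i) (N i) := fun i => (hx i).1
  let Sp : ℕ → Set (K ⊗[R] M) := fun i => if hi : i < n + 1 then
    Set.range fun a => (1 : K) ⊗ₜ[R] bM a - lc K (x ⟨i, hi⟩) ((h ⟨i, hi⟩).ell (bM a)) else ∅
  have hSp : ∀ i, i ≤ n → Sp i ⊆ subs N i := fun i hi => by
    simp only [Sp, dif_pos (Nat.lt_succ_of_le hi)]
    rintro _ ⟨a, rfl⟩
    rw [show subs N i = (N ⟨i, by omega⟩).toSubmodule from subs_val N ⟨i, by omega⟩]
    exact (h _).sub_mem _
  have hspan : ∀ i, i ≤ n → subs N i ≤ Submodule.span K (Sp i) := by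
    intro i hi v hv
    have hi' : i < n + 1 := by omega
    rw [show subs N i = (N ⟨i, hi'⟩).toSubmodule from subs_val N ⟨i, hi'⟩] at hv
    let L := (h ⟨i, hi'⟩).ell.liftBaseChange K
    have hmem : ∀ w : K ⊗[R] M, w - lc K (x ⟨i, hi'⟩) (L w) ∈ Submodule.span K (Sp i) := by
      intro w
      have hw : w ∈ (⊤ : Submodule K (K ⊗[R] M)) := trivial
      rw [← (bM.baseChange K).span_eq] at hw
      induction hw using Submodule.span_induction with
      | mem y hy =>
        obtain ⟨a, rfl⟩ := hy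
        refine Submodule.subset_span ?_
        simp only [Sp, dif_pos hi', Basis.baseChange_apply]
        exact ⟨a, by simp [L]⟩
      | zero => simp
      | add p q _ _ hp hq => rw [map_add, map_add, add_sub_add_comm]; exact add_mem hp hq
      | smul c p _ hp => rw [map_smul, map_smul, ← smul_sub]; exact Submodule.smul_mem _ c hp
    have := hmem v
    rwa [show L v = 0 from ((h ⟨i, hi'⟩).mem_iff v).mp hv, map_zero, sub_zero] at this
  have hfr : ∀ i, i ≤ n → finrank K (subs N i) = r := fun i hi => finrank_sub (bM := bM) (σ := σ) N hi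
  obtain ⟨lev, e, hlev, he, hgen⟩ : ∃ (lev : Fin r → ℕ) (e : Fin r → K ⊗[R] M),
      (∀ t, lev t ≤ n) ∧ (∀ t, e t ∈ Sp (lev t)) ∧
      ∀ i, i ≤ n → subs N i =
        Submodule.span K (Set.range fun t => phi (bc K F) (bc K G) (lev t) i (e t)) := by
    by_cases hs : algebraMap R K s = 0
    · obtain ⟨ι, _, lA, lB, w0, wA, wB, eA0, eA1, eB0, eB1, hcard, hw0, hcA, -, -, hexact⟩ :=
        exists_adapted (hyp K hs) hN hfr Sp hSp hspan
      let τ : Fin r ≃ ι := (Fintype.equivFinOfCardEq hcard).symm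
      refine ⟨lA ∘ τ, eA0 ∘ τ, fun t => hcA.lev_le _, fun t => (hexact hex _).1, fun i hi => ?_⟩
      rw [hw0 i hi, ← τ.surjective.range_comp (w0 i)]
      congr 2
      funext t
      exact ((hexact hex (τ t)).2 i).symm
    · obtain ⟨e, he, hgen⟩ := exists_frame_of_ne_zero (rel_bc K hrel) hs hN hfr (hSp 0 n.zero_le)
        (hspan 0 n.zero_le)
      exact ⟨fun _ => 0, e, fun _ => n.zero_le, he, hgen⟩
  have hw : ∀ t, ∃ a, e t = (1 : K) ⊗ₜ[R] bM a -
      lc K (x ⟨lev t, Nat.lt_succ_of_le (hlev t)⟩) ((h ⟨lev t, Nat.lt_succ_of_le (hlev t)⟩).ell (bM a)) := by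
    intro t
    have := he t
    simp only [Sp, dif_pos (Nat.lt_succ_of_le (hlev t))] at this
    obtain ⟨a, ha⟩ := this
    exact ⟨a, ha.symm⟩
  choose a ha using hw
  let D : Ix M r k n := ⟨x, fun t => ⟨lev t, Nat.lt_succ_of_le (hlev t)⟩, fun t => bM (a t)⟩
  refine ⟨D, h, fun i => ?_⟩
  have hvt : ∀ t, vt D (coeffs D h) t = e t := fun t => by
    rw [ha t, vt, coeffs, map_neg, ← sub_eq_add_neg]
  rw [fdet, ← Basis.is_basis_iff_det]
  have htop : ⊤ ≤ Submodule.span K (Set.range (fam F G D (coeffs D h) i)) := by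
    rw [fam, Set.Sum.elim_range, Submodule.span_union]
    simp only [hvt, D]
    rw [← hgen i (Nat.le_of_lt_succ i.2), subs_val, (hx i).2]
  exact ⟨linearIndependent_of_top_le_span_of_card_eq_finrank htop (by
    rw [Module.finrank_eq_card_basis (bM.baseChange K), Fintype.card_fin, ← Fintype.card_congr σ,
      Fintype.card_fin]), top_le_iff.mp htop⟩

theorem exact_of_goodT {s : R} (hrel : Rel F G s n) (hyp : FibHyp F G s n) {D : Ix M r k n}
    {N : Fin (n + 1) → Pt R M k K} (hN : LinkedT F G N) (hg : GoodT F G bM σ D N) :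
    Exact (bc K F) (bc K G) n (subs N) ∧
      (algebraMap R K s = 0 → ∀ i, i < n →
        finrank K ((subs N i).map (bc K F i)) = Fintype.card {t // (D.c t : ℕ) ≤ i}) := by
  haveI : Module.Finite K (K ⊗[R] M) := Module.Finite.of_basis (bM.baseChange K)
  obtain ⟨h, hc⟩ := hg
  have hgen : ∀ i, i ≤ n → subs N i = Submodule.span K
      (Set.range fun t => phi (bc K F) (bc K G) (D.c t) i (vt D (coeffs D h) t)) := fun i hi => by
    conv_lhs => rw [← eq_point hN h hc]
    rw [show subs hc.point i = (hc.point ⟨i, by omega⟩).toSubmodule from subs_val _ ⟨i, by omega⟩,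
      hc.point_eq_span]
    rfl
  have hfr : ∀ i, i ≤ n → finrank K (subs N i) = r := fun i hi => finrank_sub (bM := bM) (σ := σ) N hi
  by_cases hs : algebraMap R K s = 0
  · exact ⟨exact_of_gen (hyp K hs) (Fintype.card_fin r) hN hfr _ _ hgen, fun _ i hi =>
      (finrank_map_F_of_gen (hyp K hs) (Fintype.card_fin r) hfr _ _ hgen hi).1⟩
  · exact ⟨exact_of_ne_zero (rel_bc K hrel) hs, fun h => absurd h hs⟩

end Groth.Agent.LG29
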