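import Groth.Agent.Lib.LG29.ChartScheme
import Groth.Agent.Lib.LG29.Deform
import Groth.Agent.Lib.VarDim.Scheme

/-!
The exact locus, its density, and the irreducible components.
-/

set_option autoImplicit false
set_option backward.isDefEq.respectTransparency false
universe u

open TensorProduct Module CategoryTheory Limits AlgebraicGeometry TopologicalSpace

namespace Groth.Agent.LG29

open GrassLib

variable {R : Type u} [CommRing R] {M : Type u} [AddCommGroup M] [Module R M] {d r k n : ℕ}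
variable (F G : ℕ → M →ₗ[R] M) (bM : Basis (Fin d) R M) (σ : Fin d ≃ Fin r ⊕ Fin k)
variable {S : ∀ (A : Type u) [CommRing A] [Algebra R A], Set (Fin (n + 1) → Pt R M k A)}
variable {X : Over (Spec (CommRingCat.of R))} (hX : SRep R M k (n + 1) S X)
variable {s : R} (hrel : Rel F G s n) (hyp : FibHyp F G s n)
  (hS : ∀ (A : Type u) [CommRing A] [Algebra R A] (N : Fin (n + 1) → Pt R M k A),
    N ∈ S A ↔ LinkedT F G N)

/-- the union of all charts -/
def exactSet : Set X.left := {p | ∃ D : Ix M r k n, GoodAt F G bM σ D hX p}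

theorem isOpen_exactSet : IsOpen (exactSet F G bM σ hX) := by
  rw [exactSet, Set.setOf_exists]
  exact isOpen_iUnion fun D => isOpen_goodAt F G bM σ D hX

include hrel hyp hS in
theorem exact_iff_mem {K : Type u} [Field K] [Algebra R K]
    (h : Spec (CommRingCat.of K) ⟶ X.left) (hh : h ≫ X.hom = str R K) :
    Exact (bc K F) (bc K G) n (subs (hX.pt h hh)) ↔
      h (IsLocalRing.closedPoint K) ∈ exactSet F G bM σ hX := by
  have hl : LinkedT F G (hX.pt h hh) := (hS K _).mp (hX.pt_mem h hh)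
  constructor
  · intro he
    obtain ⟨D, hD⟩ := exists_chart_of_exact hrel hyp hl bM σ he
    exact ⟨D, (goodT_pt_iff F G bM σ D hX h hh).mp hD⟩
  · rintro ⟨D, hD⟩
    exact (exact_of_goodT hrel hyp hl ((goodT_pt_iff F G bM σ D hX h hh).mpr hD)).1

include hrel hyp hS in
theorem count_eq {D D' : Ix M r k n} {K : Type u} [Field K] [Algebra R K]
    (h : Spec (CommRingCat.of K) ⟶ X.left) (hh : h ≫ X.hom = str R K) (hs : algebraMap R K s = 0)
    (hD : GoodAt F G bM σ D hX (h (IsLocalRing.closedPoint K)))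
    (hD' : GoodAt F G bM σ D' hX (h (IsLocalRing.closedPoint K))) {i : ℕ} (hi : i < n) :
    Fintype.card {t // (D.c t : ℕ) ≤ i} = Fintype.card {t // (D'.c t : ℕ) ≤ i} := by
  have hl : LinkedT F G (hX.pt h hh) := (hS K _).mp (hX.pt_mem h hh)
  rw [← (exact_of_goodT hrel hyp hl ((goodT_pt_iff F G bM σ D hX h hh).mpr hD)).2 hs i hi,
    (exact_of_goodT hrel hyp hl ((goodT_pt_iff F G bM σ D' hX h hh).mpr hD')).2 hs i hi]

include hX hS in
/-- a tuple over a domain gives a specialization -/
theorem exists_specializes {A K L : Type u} [CommRing A] [Algebra R A] [Field K] [Algebra R K]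
    [Field L] [Algebra R L] (ε : A →ₐ[R] K) (η : A →ₐ[R] L) (hη : Function.Injective η)
    {NT : Fin (n + 1) → Pt R M k A} (hl : LinkedT F G NT) {D : Ix M r k n}
    (hD : GoodT F G bM σ D (fun i => GrassLib.gmap η (NT i)))
    (h : Spec (CommRingCat.of K) ⟶ X.left) (hh : h ≫ X.hom = str R K)
    (he : ∀ i, GrassLib.gmap ε (NT i) = hX.pt h hh i) :
    ∃ g : X.left, g ⤳ h (IsLocalRing.closedPoint K) ∧ GoodAt F G bM σ D hX g := by
  have hm : NT ∈ S A := (hS A NT).mpr hl
  let h0 := hX.mor NT hm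
  have hεh : sp ε ≫ h0 = h := by
    rw [hX.sp_mor]
    exact (hX.mor_congr (funext he) _ (hX.pt_mem h hh)).trans (hX.mor_pt h hh)
  refine ⟨h0 (sp η (IsLocalRing.closedPoint L)), ?_, ?_⟩
  · rw [← hεh, Scheme.Hom.comp_apply]
    refine Specializes.map ?_ h0.continuous
    rw [← PrimeSpectrum.le_iff_specializes]
    show Ideal.comap η.toRingHom (IsLocalRing.maximalIdeal L) ≤ _
    rw [IsLocalRing.maximalIdeal_eq_bot, ← RingHom.ker_eq_comap_bot,
      show RingHom.ker η.toRingHom = ⊥ from (RingHom.injective_iff_ker_eq_bot η.toRingHom).mp hη]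
    exact bot_le
  · rw [← Scheme.Hom.comp_apply]
    refine (goodT_pt_iff F G bM σ D hX (sp η ≫ h0) (SRep.comp_str (hX.mor_str _ _))).mp ?_
    convert hD using 1
    funext i
    rw [hX.pt_comp η h0 (hX.mor_str _ _), hX.pt_mor]

include hX in
theorem exists_fieldPoint (p : X.left) : ∃ (K : Type u) (_ : Field K) (_ : Algebra R K)
    (h : Spec (CommRingCat.of K) ⟶ X.left),
    h ≫ X.hom = str R K ∧ h (IsLocalRing.closedPoint K) = p := by
  obtain ⟨i, hi⟩ := exists_algebra_str (R := R) (X.left.fromSpecResidueField p ≫ X.hom)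
  exact ⟨X.left.residueField p, inferInstance, i, X.left.fromSpecResidueField p, hi.symm,
    Scheme.fromSpecResidueField_apply _ _⟩

include hrel hyp hS in
theorem exists_two_of_not_exact {K : Type u} [Field K] [Algebra R K]
    (h : Spec (CommRingCat.of K) ⟶ X.left) (hh : h ≫ X.hom = str R K)
    (hne : ¬ Exact (bc K F) (bc K G) n (subs (hX.pt h hh))) :
    algebraMap R K s = 0 ∧ ∃ D D' : Ix M r k n,
      (∃ g, g ⤳ h (IsLocalRing.closedPoint K) ∧ GoodAt F G bM σ D hX g) ∧
      (∃ g, g ⤳ h (IsLocalRing.closedPoint K) ∧ GoodAt F G bM σ D' hX g) ∧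
      ∃ i, i < n ∧
        Fintype.card {t // (D.c t : ℕ) ≤ i} ≠ Fintype.card {t // (D'.c t : ℕ) ≤ i} := by
  have hl : LinkedT F G (hX.pt h hh) := (hS K _).mp (hX.pt_mem h hh)
  have hs : algebraMap R K s = 0 := by
    by_contra hs
    exact hne (exact_of_ne_zero (rel_bc K hrel) hs)
  obtain ⟨lA, lB, hdef, hdiff⟩ := exists_deformations hrel hyp hl hs bM σ
  obtain ⟨A, _, _, L, _, _, ε, η, NT, D, hη, hlA, heA, hDA, hcA⟩ := hdef lA (Set.mem_insert _ _)
  obtain ⟨A', _, _, L', _, _, ε', η', NT', D', hη', hlB, heB, hDB, hcB⟩ :=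
    hdef lB (Set.mem_insert_of_mem _ rfl)
  obtain ⟨i, hi, hne'⟩ := hdiff hne
  exact ⟨hs, D, D', exists_specializes F G bM σ hX hS ε η hη hlA hDA h hh heA,
    exists_specializes F G bM σ hX hS ε' η' hη' hlB hDB h hh heB, i, hi,
    by rw [hcA i hi, hcB i hi]; exact hne'⟩

include hrel hyp hS in
theorem exists_generization (p : X.left) : ∃ g, g ⤳ p ∧ g ∈ exactSet F G bM σ hX := by
  obtain ⟨K, _, _, h, hh, rfl⟩ := exists_fieldPoint hX p
  by_cases he : Exact (bc K F) (bc K G) n (subs (hX.pt h hh))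
  · exact ⟨_, specializes_rfl, (exact_iff_mem F G bM σ hX hrel hyp hS h hh).mp he⟩
  · obtain ⟨-, D, -, ⟨g, hg, hgD⟩, -⟩ := exists_two_of_not_exact F G bM σ hX hrel hyp hS h hh he
    exact ⟨g, hg, D, hgD⟩

include hrel hyp hS in
theorem dense_exactSet : Dense (exactSet F G bM σ hX) := fun p => by
  obtain ⟨g, hg, hgU⟩ := exists_generization F G bM σ hX hrel hyp hS p
  exact closure_mono (Set.singleton_subset_iff.mpr hgU) (specializes_iff_mem_closure.mp hg)

section domain

variable [IsDomain R]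

include hrel hS in
theorem chartDet_ne_zero {D : Ix M r k n} (h : (chartOpen F G bM σ D hX : Set X.left).Nonempty) :
    chartDet F G bM σ D ≠ 0 := by
  intro h0
  obtain ⟨-, hr⟩ := isOpenImmersion_chartMap F G bM σ D hX hrel hS
  rw [← hr] at h
  obtain ⟨_, q, rfl⟩ := h
  have : Subsingleton (ChartRing F G bM σ D) :=
    IsLocalization.subsingleton (M := Submonoid.powers (chartDet F G bM σ D))
      (h0 ▸ Submonoid.mem_powers _)
  exact q.isPrime.ne_top (Subsingleton.elim _ _)

include hrel hS in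
theorem isIrreducible_chartOpen {D : Ix M r k n}
    (h : (chartOpen F G bM σ D hX : Set X.left).Nonempty) :
    IsIrreducible (chartOpen F G bM σ D hX : Set X.left) := by
  have hne := chartDet_ne_zero F G bM σ hX hrel hS h
  obtain ⟨-, hr⟩ := isOpenImmersion_chartMap F G bM σ D hX hrel hS
  have hdom : IsDomain (ChartRing F G bM σ D) :=
    IsLocalization.isDomain_localization (powers_le_nonZeroDivisors_of_noZeroDivisors hne)
  rw [← hr, ← Set.image_univ]
  exact (IrreducibleSpace.isIrreducible_univ _).image _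
    (chartMap F G bM σ D hX hrel hS).continuous.continuousOn

include hrel hS in
/-- a component meeting a chart is its closure -/
theorem eq_closure_of_mem {Z : Set X.left} (hZ : Z ∈ irreducibleComponents X.left) {D : Ix M r k n}
    (hne : (Z ∩ chartOpen F G bM σ D hX).Nonempty) : Z = closure (chartOpen F G bM σ D hX) := by
  have hZc := isClosed_of_mem_irreducibleComponents Z hZ
  obtain ⟨g, hg⟩ := QuasiSober.sober hZ.1 hZc
  have hgO : g ∈ chartOpen F G bM σ D hX := by
    obtain ⟨p, hpZ, hpO⟩ := hne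
    exact (hg.specializes hpZ).mem_open (chartOpen F G bM σ D hX).isOpen hpO
  have hsub : Z ⊆ closure (chartOpen F G bM σ D hX) := by
    rw [← hg.def]; exact closure_mono (Set.singleton_subset_iff.mpr hgO)
  exact le_antisymm hsub (hZ.2 (isIrreducible_chartOpen F G bM σ hX hrel hS ⟨g, hgO⟩).closure hsub)

include hrel hyp hS in
theorem exists_chart_of_component {Z : Set X.left} (hZ : Z ∈ irreducibleComponents X.left) :
    ∃ D : Ix M r k n, (Z ∩ chartOpen F G bM σ D hX).Nonempty ∧
      Z = closure (chartOpen F G bM σ D hX) := by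
  have hZc := isClosed_of_mem_irreducibleComponents Z hZ
  obtain ⟨g, hg⟩ := QuasiSober.sober hZ.1 hZc
  obtain ⟨g', hg', D, hD⟩ := exists_generization F G bM σ hX hrel hyp hS g
  have hsub : Z ⊆ closure {g'} := by
    rw [← hg.def]
    exact closure_minimal (Set.singleton_subset_iff.mpr (specializes_iff_mem_closure.mp hg')) isClosed_closure
  have hmem : g' ∈ Z := hZ.2 isIrreducible_singleton.closure hsub (subset_closure rfl)
  exact ⟨D, ⟨g', hmem, hD⟩, eq_closure_of_mem F G bM σ hX hrel hS hZ ⟨g', hmem, hD⟩⟩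

end domain

include hrel hyp hS bM σ in
/-- non exact points over a field of vanishing scalar lie in two components -/
theorem exists_two_components [IsDomain R] (hs : s = 0) {K : Type u} [Field K] [Algebra R K]
    (h : Spec (CommRingCat.of K) ⟶ X.left) (hh : h ≫ X.hom = str R K)
    (hne : ¬ Exact (bc K F) (bc K G) n (subs (hX.pt h hh))) :
    ∃ Z₁ ∈ irreducibleComponents X.left, ∃ Z₂ ∈ irreducibleComponents X.left,
      Z₁ ≠ Z₂ ∧ h (IsLocalRing.closedPoint K) ∈ Z₁ ∩ Z₂ := by
  obtain ⟨-, D, D', ⟨g, hg, hgD⟩, ⟨g', hg', hgD'⟩, i, hi, hne'⟩ :=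
    exists_two_of_not_exact F G bM σ hX hrel hyp hS h hh hne
  have comp : ∀ (D : Ix M r k n) (g : X.left), GoodAt F G bM σ D hX g →
      ∃ Z ∈ irreducibleComponents X.left, g ∈ Z ∧ Z = closure (chartOpen F G bM σ D hX) := by
    intro D g hgD
    refine ⟨irreducibleComponent g, irreducibleComponent_mem_irreducibleComponents g,
      mem_irreducibleComponent, eq_closure_of_mem F G bM σ hX hrel hS
        (irreducibleComponent_mem_irreducibleComponents g) ⟨g, mem_irreducibleComponent, hgD⟩⟩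
  obtain ⟨Z, hZ, hgZ, eZ⟩ := comp D g hgD
  obtain ⟨Z', hZ', hgZ', eZ'⟩ := comp D' g' hgD'
  refine ⟨Z, hZ, Z', hZ', fun he => ?_, hg.mem_closed (isClosed_of_mem_irreducibleComponents Z hZ) hgZ,
    hg'.mem_closed (isClosed_of_mem_irreducibleComponents Z' hZ') hgZ'⟩
  obtain ⟨η, hη⟩ := QuasiSober.sober hZ.1 (isClosed_of_mem_irreducibleComponents Z hZ)
  have h1 : η ∈ chartOpen F G bM σ D hX :=
    (hη.specializes hgZ).mem_open (chartOpen F G bM σ D hX).isOpen hgD
  have h2 : η ∈ chartOpen F G bM σ D' hX :=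
    (hη.specializes (he ▸ hgZ')).mem_open (chartOpen F G bM σ D' hX).isOpen hgD'
  obtain ⟨L, _, _, h', hh', rfl⟩ := exists_fieldPoint hX η
  exact hne' (count_eq F G bM σ hX hrel hyp hS h' hh' (by rw [hs, map_zero]) h1 h2 hi)

end Groth.Agent.LG29
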