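import Groth.Agent.Lib.LG29.Main

/-!
When the scalar is nonzero all components coincide; images of components.
-/

set_option autoImplicit false
set_option backward.isDefEq.respectTransparency false
universe u

open TensorProduct Module CategoryTheory Limits AlgebraicGeometry TopologicalSpace

namespace Groth.Agent.LG29

open GrassLib

variable {R : Type u} [CommRing R] {M : Type u} [AddCommGroup M] [Module R M] {d r k n : ℕ}
variable (F G : ℕ → M →ₗ[R] M) (bM : Basis (Fin d) R M) (σ : Fin d ≃ Fin r ⊕ Fin k)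
variable {S : ∀ (A : Type u) [CommRing A] [Algebra R A], Set (Fin (n + 1) → Pt R M k A)}
variable {X : Over (Spec (CommRingCat.of R))} (hX : SRep R M k (n + 1) S X)
variable {s : R} (hrel : Rel F G s n)
  (hS : ∀ (A : Type u) [CommRing A] [Algebra R A] (N : Fin (n + 1) → Pt R M k A),
    N ∈ S A ↔ LinkedT F G N)

include bM σ hrel hS in
/-- a line of frames gives a common generization -/
theorem exists_line {K : Type u} [Field K] [Algebra R K] (U : ℕ → Fin r → Polynomial K ⊗[R] M)
    (hU : ∀ i t, U i t = phi (bc (Polynomial K) F) (bc (Polynomial K) G) 0 i (U 0 t))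
    (t0 : K) {N : Fin (n + 1) → Pt R M k K}
    (hN : ∀ i, i ≤ n → subs N i = Submodule.span K
      (Set.range fun t => tm ((Polynomial.aeval t0).restrictScalars R : Polynomial K →ₐ[R] K) (U i t))) :
    ∃ (A : Type u) (_ : CommRing A) (_ : Algebra R A) (ε : A →ₐ[R] K)
      (η : A →ₐ[R] FractionRing (Polynomial K)) (NT : Fin (n + 1) → Pt R M k A),
      Function.Injective η ∧ LinkedT F G NT ∧ (∀ i, GrassLib.gmap ε (NT i) = N i) ∧
      ∀ i, (GrassLib.gmap η (NT i)).toSubmodule = Submodule.span _ (Set.range fun t =>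
        tm (IsScalarTower.toAlgHom R (Polynomial K) (FractionRing (Polynomial K))) (U (i : ℕ) t)) := by
  classical
  haveI : Module.Finite K (K ⊗[R] M) := Module.Finite.of_basis (bM.baseChange K)
  obtain ⟨x, hx⟩ := exists_complements N bM σ
  let ev : Polynomial K →ₐ[R] K := (Polynomial.aeval t0).restrictScalars R
  let δ : Polynomial K := ∏ i : Fin (n + 1), splitDet bM σ (x i) (U i)
  have hδ0 : ev δ ≠ 0 := by
    rw [map_prod, Finset.prod_ne_zero_iff]
    intro i _
    rw [splitDet_map, splitDet, ← isUnit_iff_ne_zero, ← Basis.is_basis_iff_det]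
    have htop : ⊤ ≤ Submodule.span K
        (Set.range (Sum.elim (fun t => tm ev (U i t)) fun j => (1 : K) ⊗ₜ[R] x i j)) := by
      rw [Set.Sum.elim_range, Submodule.span_union, ← hN i (Nat.le_of_lt_succ i.2), subs_val,
        (hx i).2]
    exact ⟨linearIndependent_of_top_le_span_of_card_eq_finrank htop (by
      rw [Module.finrank_eq_card_basis (bM.baseChange K), Fintype.card_fin, ← Fintype.card_congr σ,
        Fintype.card_fin]), top_le_iff.mp htop⟩
  have hδne : δ ≠ 0 := fun h => hδ0 (by rw [h, map_zero])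
  let A := Localization.Away δ
  let ψ : Polynomial K →ₐ[R] A := IsScalarTower.toAlgHom R (Polynomial K) A
  have huA : ∀ i : Fin (n + 1), IsUnit (splitDet bM σ (x i) (fun t => tm ψ (U i t))) := fun i => by
    rw [← splitDet_map]
    have hu : IsUnit (∏ i : Fin (n + 1), ψ (splitDet bM σ (x i) (U i))) := by
      rw [← map_prod]; exact IsLocalization.Away.algebraMap_isUnit (S := A) δ
    exact IsUnit.prod_iff.mp hu i (Finset.mem_univ i)
  choose NT hNT using fun i => exists_point_of_split bM σ (huA i)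
  have huev : ∀ y : Submonoid.powers δ, IsUnit (ev y) := by
    rintro ⟨_, e, rfl⟩
    rw [map_pow]
    exact (isUnit_iff_ne_zero.mpr hδ0).pow e
  let ι' : Polynomial K →ₐ[R] FractionRing (Polynomial K) :=
    IsScalarTower.toAlgHom R (Polynomial K) (FractionRing (Polynomial K))
  have huι : ∀ y : Submonoid.powers δ, IsUnit (ι' y) := by
    rintro ⟨_, e, rfl⟩
    rw [map_pow]
    refine (isUnit_iff_ne_zero.mpr ?_).pow e
    rw [Ne, map_eq_zero_iff ι' (IsFractionRing.injective (Polynomial K) (FractionRing (Polynomial K)))]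
    exact hδne
  let ε : A →ₐ[R] K := IsLocalization.liftAlgHom huev
  let η : A →ₐ[R] FractionRing (Polynomial K) := IsLocalization.liftAlgHom huι
  have hεψ : ε.comp ψ = ev := AlgHom.ext fun z => IsLocalization.lift_eq _ z
  have hηψ : η.comp ψ = ι' := AlgHom.ext fun z => IsLocalization.lift_eq _ z
  have tm_comp' : ∀ {Q : Type u} [CommRing Q] [Algebra R Q] (φ : A →ₐ[R] Q) (v : Polynomial K ⊗[R] M),
      tm φ (tm ψ v) = tm (φ.comp ψ) v := by
    intro Q _ _ φ v
    rw [← LinearMap.comp_apply, ← LinearMap.rTensor_comp]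
    rfl
  refine ⟨A, inferInstance, inferInstance, ε, η, NT, ?_, ?_, fun i => ?_, fun i => ?_⟩
  · show Function.Injective (IsLocalization.lift huι)
    rw [IsLocalization.lift_injective_iff]
    intro a b
    have h1 : Function.Injective (algebraMap (Polynomial K) A) :=
      IsLocalization.injective A (powers_le_nonZeroDivisors_of_noZeroDivisors hδne)
    exact ⟨fun h => congrArg ι' (h1 h), fun h => congrArg _
      (IsFractionRing.injective (Polynomial K) (FractionRing (Polynomial K)) h)⟩
  · have hl := linked_span_phi (rel_bc A hrel) (fun _ : Fin r => 0) (fun t => tm ψ (U 0 t))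
    intro i hi
    rw [subs_val NT ⟨i, by omega⟩, subs_val NT ⟨i + 1, by omega⟩, hNT, hNT]
    have e : ∀ j, (fun t => tm ψ (U j t)) = fun t => phi (bc A F) (bc A G) 0 j (tm ψ (U 0 t)) :=
      fun j => funext fun t => by rw [hU j t, rTensor_phi]
    simp only [e]
    exact hl i hi
  · refine Module.Grassmannian.ext ?_
    rw [tm_span ε (hNT i), ← subs_val N i, hN i (Nat.le_of_lt_succ i.2)]
    simp only [tm_comp', hεψ]
    rfl
  · rw [tm_span η (hNT i)]
    simp only [tm_comp', hηψ]
    rfl

include bM σ hX hrel hS in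
/-- two points over a field with invertible scalar have a common generization -/
theorem exists_join {K : Type u} [Field K] [Algebra R K] (hs : algebraMap R K s ≠ 0)
    (h1 h2 : Spec (CommRingCat.of K) ⟶ X.left) (hh1 : h1 ≫ X.hom = str R K)
    (hh2 : h2 ≫ X.hom = str R K) :
    ∃ g : X.left, g ⤳ h1 (IsLocalRing.closedPoint K) ∧ g ⤳ h2 (IsLocalRing.closedPoint K) := by
  haveI : Module.Finite K (K ⊗[R] M) := Module.Finite.of_basis (bM.baseChange K)
  have frame : ∀ (h : Spec (CommRingCat.of K) ⟶ X.left) (hh : h ≫ X.hom = str R K),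
      ∃ b : Fin r → K ⊗[R] M, ∀ i, i ≤ n → subs (hX.pt h hh) i =
        Submodule.span K (Set.range fun t => phi (bc K F) (bc K G) 0 i (b t)) := by
    intro h hh
    obtain ⟨b, -, hb⟩ := exists_frame_of_ne_zero (rel_bc K hrel) hs ((hS K _).mp (hX.pt_mem h hh))
      (fun i hi => finrank_sub (bM := bM) (σ := σ) _ hi)
      (Sp := (subs (hX.pt h hh) 0 : Set (K ⊗[R] M))) subset_rfl (by rw [Submodule.span_eq])
    exact ⟨b, hb⟩
  obtain ⟨b, hb⟩ := frame h1 hh1
  obtain ⟨b', hb'⟩ := frame h2 hh2
  let ι : K →ₐ[R] Polynomial K := IsScalarTower.toAlgHom R K (Polynomial K)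
  let u : Fin r → Polynomial K ⊗[R] M := fun t =>
    (1 - Polynomial.X : Polynomial K) • tm ι (b t) + (Polynomial.X : Polynomial K) • tm ι (b' t)
  let U : ℕ → Fin r → Polynomial K ⊗[R] M := fun i t =>
    phi (bc (Polynomial K) F) (bc (Polynomial K) G) 0 i (u t)
  have hU : ∀ i t, U i t = phi (bc (Polynomial K) F) (bc (Polynomial K) G) 0 i (U 0 t) := fun i t => by
    simp [U]
  have hev : ∀ t0 : K, ∀ i t, tm ((Polynomial.aeval t0).restrictScalars R : Polynomial K →ₐ[R] K) (U i t) =
      phi (bc K F) (bc K G) 0 i ((1 - t0) • b t + t0 • b' t) := by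
    intro t0 i t
    have hid : ∀ v : K ⊗[R] M,
        tm ((Polynomial.aeval t0).restrictScalars R : Polynomial K →ₐ[R] K) (tm ι v) = v := by
      intro v
      induction v using TensorProduct.induction_on with
      | zero => simp
      | tmul a m => simp [ι]
      | add p q hp hq => simp only [map_add, hp, hq]
    rw [rTensor_phi]
    congr 1
    simp only [u, map_add, tm_smul, hid]
    simp
  obtain ⟨A1, _, _, ε1, η1, NT1, hη1, hl1, he1, hg1⟩ := exists_line F G bM σ hrel hS U hU (0 : K)
    (N := hX.pt h1 hh1) (fun i hi => by rw [hb i hi]; simp only [hev, sub_zero, one_smul, zero_smul, add_zero])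
  obtain ⟨A2, _, _, ε2, η2, NT2, hη2, hl2, he2, hg2⟩ := exists_line F G bM σ hrel hS U hU (1 : K)
    (N := hX.pt h2 hh2) (fun i hi => by rw [hb' i hi]; simp only [hev, sub_self, one_smul, zero_smul, zero_add])
  have hspec : ∀ {A : Type u} [CommRing A] [Algebra R A] (ε : A →ₐ[R] K)
      (η : A →ₐ[R] FractionRing (Polynomial K)) (NT : Fin (n + 1) → Pt R M k A)
      (_ : Function.Injective η) (hm : NT ∈ S A)
      (h : Spec (CommRingCat.of K) ⟶ X.left) (hh : h ≫ X.hom = str R K),
      (∀ i, GrassLib.gmap ε (NT i) = hX.pt h hh i) →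
      hX.mor (fun i => GrassLib.gmap η (NT i)) (hX.gmap_mem η hm)
        (IsLocalRing.closedPoint (FractionRing (Polynomial K))) ⤳ h (IsLocalRing.closedPoint K) := by
    intro A _ _ ε η NT hη hm h hh he
    have hεh : sp ε ≫ hX.mor NT hm = h := by
      rw [hX.sp_mor]
      exact (hX.mor_congr (funext he) _ (hX.pt_mem h hh)).trans (hX.mor_pt h hh)
    rw [← hεh, ← hX.sp_mor η NT hm, Scheme.Hom.comp_apply, Scheme.Hom.comp_apply]
    refine Specializes.map ?_ (hX.mor NT hm).continuous
    rw [← PrimeSpectrum.le_iff_specializes]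
    show Ideal.comap η.toRingHom (IsLocalRing.maximalIdeal _) ≤ _
    rw [IsLocalRing.maximalIdeal_eq_bot, ← RingHom.ker_eq_comap_bot,
      show RingHom.ker η.toRingHom = ⊥ from (RingHom.injective_iff_ker_eq_bot η.toRingHom).mp hη]
    exact bot_le
  refine ⟨_, hspec ε1 η1 NT1 hη1 ((hS A1 NT1).mpr hl1) h1 hh1 he1, ?_⟩
  have h := hspec ε2 η2 NT2 hη2 ((hS A2 NT2).mpr hl2) h2 hh2 he2
  have e : (fun i => GrassLib.gmap η1 (NT1 i)) = fun i => GrassLib.gmap η2 (NT2 i) :=
    funext fun i => Module.Grassmannian.ext ((hg1 i).trans (hg2 i).symm)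
  rwa [hX.mor_congr e (hX.gmap_mem η1 ((hS A1 NT1).mpr hl1)) (hX.gmap_mem η2 ((hS A2 NT2).mpr hl2))]

include hrel hS in
theorem image_component [IsDomain R] (hyp : FibHyp F G s n) [IsProper X.hom] (bM : Basis (Fin d) R M)
    (σ : Fin d ≃ Fin r ⊕ Fin k) {Z : Set X.left} (hX : SRep R M k (n + 1) S X)
    (hZ : Z ∈ irreducibleComponents X.left) : X.hom.base '' Z = Set.univ := by
  obtain ⟨D, hne, heq⟩ := exists_chart_of_component F G bM σ hX hrel hyp hS hZ
  obtain ⟨-, hr⟩ := isOpenImmersion_chartMap F G bM σ D hX hrel hS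
  have hΔ := chartDet_ne_zero F G bM σ hX hrel hS (hne.mono Set.inter_subset_right)
  haveI : IsDomain (ChartRing F G bM σ D) :=
    IsLocalization.isDomain_localization (powers_le_nonZeroDivisors_of_noZeroDivisors hΔ)
  have hinj : Function.Injective (algebraMap R (ChartRing F G bM σ D)) := by
    rw [IsScalarTower.algebraMap_eq R (MvPolynomial (Fin r × Fin k) R) (ChartRing F G bM σ D),
      RingHom.coe_comp]
    exact (IsLocalization.injective _ (powers_le_nonZeroDivisors_of_noZeroDivisors hΔ)).comp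
      (MvPolynomial.C_injective _ _)
  let η : PrimeSpectrum R := ⟨⊥, Ideal.isPrime_bot⟩
  let q : PrimeSpectrum (ChartRing F G bM σ D) := ⟨⊥, Ideal.isPrime_bot⟩
  have hη : η ∈ X.hom.base '' Z := by
    refine ⟨chartMap F G bM σ D hX hrel hS q, heq ▸ subset_closure (hr ▸ ⟨q, rfl⟩), ?_⟩
    show (chartMap F G bM σ D hX hrel hS ≫ X.hom) q = η
    rw [chartMap_str]
    apply PrimeSpectrum.ext
    show Ideal.comap (algebraMap R (ChartRing F G bM σ D)) ⊥ = ⊥
    rw [← RingHom.ker_eq_comap_bot, (RingHom.injective_iff_ker_eq_bot _).mp hinj]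
  have hcl : IsClosed (X.hom.base '' Z) :=
    X.hom.isClosedMap _ (isClosed_of_mem_irreducibleComponents Z hZ)
  refine Set.eq_univ_of_forall fun p => ?_
  refine (show (η : Spec (CommRingCat.of R)) ⤳ p from ?_).mem_closed hcl hη
  rw [← PrimeSpectrum.le_iff_specializes]
  exact bot_le

include hrel hS in
theorem irreducibleSpace_of_ne_zero [IsDomain R] (hyp : FibHyp F G s n) (hs : s ≠ 0)
    (bM : Basis (Fin d) R M) (σ : Fin d ≃ Fin r ⊕ Fin k) (hX : SRep R M k (n + 1) S X)
    [Nonempty X.left] : IrreducibleSpace X.left := by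
  let η : PrimeSpectrum R := ⟨⊥, Ideal.isPrime_bot⟩
  -- a point over the generic point in every component
  have hpt : ∀ Z ∈ irreducibleComponents X.left, ∃ (K : Type u) (_ : Field K) (_ : Algebra R K)
      (h : Spec (CommRingCat.of K) ⟶ X.left), h ≫ X.hom = str R K ∧
        Function.Injective (algebraMap R K) ∧ ∃ D, GoodAt F G bM σ D hX (h (IsLocalRing.closedPoint K)) ∧
          Z = closure (chartOpen F G bM σ D hX) := by
    intro Z hZ
    obtain ⟨D, hne, heq⟩ := exists_chart_of_component F G bM σ hX hrel hyp hS hZ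
    obtain ⟨-, hr⟩ := isOpenImmersion_chartMap F G bM σ D hX hrel hS
    have hΔ := chartDet_ne_zero F G bM σ hX hrel hS (hne.mono Set.inter_subset_right)
    haveI : IsDomain (ChartRing F G bM σ D) :=
      IsLocalization.isDomain_localization (powers_le_nonZeroDivisors_of_noZeroDivisors hΔ)
    let L := FractionRing (ChartRing F G bM σ D)
    refine ⟨L, inferInstance, inferInstance,
      sp (IsScalarTower.toAlgHom R (ChartRing F G bM σ D) L) ≫ chartMap F G bM σ D hX hrel hS,
      SRep.comp_str (chartMap_str F G bM σ D hX hrel hS), ?_, D, ?_, heq⟩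
    · rw [IsScalarTower.algebraMap_eq R (ChartRing F G bM σ D) L, RingHom.coe_comp]
      refine (IsFractionRing.injective _ L).comp ?_
      rw [IsScalarTower.algebraMap_eq R (MvPolynomial (Fin r × Fin k) R) (ChartRing F G bM σ D),
        RingHom.coe_comp]
      exact (IsLocalization.injective _ (powers_le_nonZeroDivisors_of_noZeroDivisors hΔ)).comp
        (MvPolynomial.C_injective _ _)
    · rw [Scheme.Hom.comp_apply]
      show _ ∈ (chartOpen F G bM σ D hX : Set X.left)
      rw [← hr]
      exact ⟨_, rfl⟩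
  have heq : ∀ Z ∈ irreducibleComponents X.left, ∀ Z' ∈ irreducibleComponents X.left, Z = Z' := by
    intro Z hZ Z' hZ'
    obtain ⟨L₁, _, _, h₁, hh₁, hi₁, D, hD, eD⟩ := hpt Z hZ
    obtain ⟨L₂, _, _, h₂, hh₂, hi₂, D', hD', eD'⟩ := hpt Z' hZ'
    let K := FractionRing R
    let a₁ : K →ₐ[R] L₁ := IsFractionRing.liftAlgHom (g := Algebra.ofId R L₁) hi₁
    let a₂ : K →ₐ[R] L₂ := IsFractionRing.liftAlgHom (g := Algebra.ofId R L₂) hi₂
    letI := a₁.toAlgebra
    letI := a₂.toAlgebra
    haveI : IsScalarTower R K L₁ := IsScalarTower.of_algebraMap_eq' a₁.comp_algebraMap.symm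
    haveI : IsScalarTower R K L₂ := IsScalarTower.of_algebraMap_eq' a₂.comp_algebraMap.symm
    haveI : Nontrivial (L₁ ⊗[K] L₂) :=
      (Algebra.TensorProduct.includeLeft_injective (R := K) (S := K) (A := L₁) (B := L₂)
        (FaithfulSMul.algebraMap_injective K L₂)).nontrivial
    obtain ⟨m, hm⟩ := Ideal.exists_maximal (L₁ ⊗[K] L₂)
    let E := (L₁ ⊗[K] L₂) ⧸ m
    letI : Field E := Ideal.Quotient.field m
    let j₁ : L₁ →ₐ[R] E := ((Ideal.Quotient.mkₐ K m).comp Algebra.TensorProduct.includeLeft).restrictScalars R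
    let j₂ : L₂ →ₐ[R] E := ((Ideal.Quotient.mkₐ K m).comp Algebra.TensorProduct.includeRight).restrictScalars R
    have hsE : algebraMap R E s ≠ 0 := by
      rw [← j₁.commutes, Ne, map_eq_zero]
      exact fun h => hs (hi₁ (h.trans (map_zero _).symm))
    obtain ⟨g, hg₁, hg₂⟩ := exists_join F G bM σ hX hrel hS hsE (sp j₁ ≫ h₁) (sp j₂ ≫ h₂)
      (SRep.comp_str hh₁) (SRep.comp_str hh₂)
    haveI : Subsingleton (PrimeSpectrum L₁) := inferInstance
    haveI : Subsingleton (PrimeSpectrum L₂) := inferInstance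
    rw [Scheme.Hom.comp_apply, Subsingleton.elim
      ((sp j₁) (IsLocalRing.closedPoint E) : PrimeSpectrum L₁) (IsLocalRing.closedPoint L₁)] at hg₁
    rw [Scheme.Hom.comp_apply, Subsingleton.elim
      ((sp j₂) (IsLocalRing.closedPoint E) : PrimeSpectrum L₂) (IsLocalRing.closedPoint L₂)] at hg₂
    have g1 : g ∈ chartOpen F G bM σ D hX := hg₁.mem_open (chartOpen F G bM σ D hX).isOpen hD
    have g2 : g ∈ chartOpen F G bM σ D' hX := hg₂.mem_open (chartOpen F G bM σ D' hX).isOpen hD'
    exact eD.trans (eD ▸ eq_closure_of_mem F G bM σ hX hrel hS hZ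
      (D := D') ⟨g, eD ▸ subset_closure g1, g2⟩ |>.trans eD'.symm)
  let p : X.left := Classical.arbitrary _
  have huniv : (Set.univ : Set X.left) = irreducibleComponent p := by
    refine (Set.eq_univ_of_forall fun q => ?_).symm
    rw [heq _ (irreducibleComponent_mem_irreducibleComponents p) _
      (irreducibleComponent_mem_irreducibleComponents q)]
    exact mem_irreducibleComponent
  refine (irreducibleSpace_def _).mpr ?_
  rw [Set.top_eq_univ, huniv]
  exact isIrreducible_irreducibleComponent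

end Groth.Agent.LG29
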