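import Groth.Agent.Lib.LG29.Chain

/-!
Linked subspaces over a field: exactness in terms of ranks, adapted families of generators, and the
two linear families deforming a linked tuple into exact ones.
-/

namespace Groth.Agent.LG29

open Module

variable {K E : Type*} [Field K] [AddCommGroup E] [Module K E] [FiniteDimensional K E]
variable {F G : ℕ → E →ₗ[K] E} {n r : ℕ} {V : ℕ → Submodule K E}

omit [FiniteDimensional K E] in
theorem rel_apply {s : K} (h : Rel F G s n) {i : ℕ} (hi : i < n) (v : E) :
    F i (G i v) = s • v ∧ G i (F i v) = s • v := ⟨(h i hi).1 v, (h i hi).2 v⟩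

variable (F G n) in
/-- the conditions on a linked chain with scalar zero -/
structure Hyp : Prop where
  rel : Rel F G (0 : K) n
  kerF : ∀ i, i < n → LinearMap.ker (F i) = LinearMap.range (G i)
  kerG : ∀ i, i < n → LinearMap.ker (G i) = LinearMap.range (F i)
  disjF : ∀ i, i + 1 < n → Disjoint (LinearMap.range (F i)) (LinearMap.ker (F (i + 1)))
  disjG : ∀ i, i + 1 < n → Disjoint (LinearMap.range (G (i + 1))) (LinearMap.ker (G i))

variable (F G n V) in
/-- kernels on members lie in the images of the neighbours -/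
def Exact : Prop :=
  ∀ i, i < n → LinearMap.ker (G i) ⊓ V (i + 1) ≤ (V i).map (F i) ∧
    LinearMap.ker (F i) ⊓ V i ≤ (V (i + 1)).map (G i)

theorem finrank_map_add_ker (f : E →ₗ[K] E) (S : Submodule K E) :
    finrank K (S.map f) + finrank K ↥(LinearMap.ker f ⊓ S) = finrank K S := by
  have h := LinearMap.finrank_range_add_finrank_ker (f.domRestrict S)
  rw [LinearMap.range_domRestrict] at h
  rw [(Submodule.equivMapOfInjective S.subtype S.injective_subtype
    (LinearMap.ker (f.domRestrict S))).finrank_eq] at h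
  rw [inf_comm, ← Submodule.map_comap_subtype,
    show Submodule.comap S.subtype (LinearMap.ker f) = LinearMap.ker (f.domRestrict S) from
      Submodule.ext fun x => Iff.rfl]
  exact h

variable (hV : Linked F G n V) (hr : ∀ i, i ≤ n → finrank K (V i) = r)

theorem Hyp.map_G_le (h : Hyp F G n) (hV : Linked F G n V) {i : ℕ} (hi : i < n) :
    (V (i + 1)).map (G i) ≤ LinearMap.ker (F i) ⊓ V i :=
  le_inf ((h.kerF i hi).symm ▸ LinearMap.map_le_range) (hV i hi).2

theorem Hyp.map_F_le (h : Hyp F G n) (hV : Linked F G n V) {i : ℕ} (hi : i < n) :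
    (V i).map (F i) ≤ LinearMap.ker (G i) ⊓ V (i + 1) :=
  le_inf ((h.kerG i hi).symm ▸ LinearMap.map_le_range) (hV i hi).1

include hV hr in
theorem Hyp.add_le (h : Hyp F G n) {i : ℕ} (hi : i < n) :
    finrank K ((V i).map (F i)) + finrank K ((V (i + 1)).map (G i)) ≤ r := by
  have := Submodule.finrank_mono (h.map_G_le hV hi)
  have := finrank_map_add_ker (F i) (V i)
  have := hr i hi.le
  omega

include hV hr in
theorem Hyp.exact_iff (h : Hyp F G n) : Exact F G n V ↔
    ∀ i, i < n → finrank K ((V i).map (F i)) + finrank K ((V (i + 1)).map (G i)) = r := by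
  refine forall_congr' fun i => imp_congr_right fun hi => ?_
  have h1 := finrank_map_add_ker (F i) (V i)
  have h2 := finrank_map_add_ker (G i) (V (i + 1))
  have h3 := hr i hi.le
  have h4 := hr (i + 1) hi
  constructor
  · intro he
    have := Submodule.finrank_mono he.2
    have := h.add_le hV hr hi
    omega
  · intro he
    exact ⟨(Submodule.eq_of_le_of_finrank_eq (h.map_F_le hV hi) (by omega)).ge,
      (Submodule.eq_of_le_of_finrank_eq (h.map_G_le hV hi) (by omega)).ge⟩

omit [FiniteDimensional K E] in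
theorem exact_of_ne_zero {s : K} (h : Rel F G s n) (hs : s ≠ 0) : Exact F G n V := by
  intro i hi
  constructor <;> rintro x ⟨hx, -⟩ <;>
    suffices hx0 : x = 0 by rw [hx0]; exact zero_mem _
  · have := (rel_apply h hi x).1
    rw [LinearMap.mem_ker.mp hx, map_zero, eq_comm, smul_eq_zero] at this
    exact this.resolve_left hs
  · have := (rel_apply h hi x).2
    rw [LinearMap.mem_ker.mp hx, map_zero, eq_comm, smul_eq_zero] at this
    exact this.resolve_left hs

/-- complete a subspace by members of a spanning set -/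
theorem exists_completion {S T : Submodule K E} (hST : S ≤ T) {Sp : Set E} (hSp : Sp ⊆ T)
    (hspan : T ≤ S ⊔ Submodule.span K Sp) {m : ℕ} (hm : finrank K S + m = finrank K T) :
    ∃ v : Fin m → E, (∀ x, v x ∈ Sp) ∧ S ⊔ Submodule.span K (Set.range v) = T := by
  induction m generalizing S with
  | zero =>
    refine ⟨Fin.elim0, fun x => x.elim0, ?_⟩
    rw [Submodule.eq_of_le_of_finrank_eq hST (by omega)]
    simp
  | succ m ih =>
    obtain ⟨x, hx, hxS⟩ : ∃ x ∈ Sp, x ∉ S := by
      by_contra hne
      push Not at hne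
      have := Submodule.finrank_mono (hspan.trans (sup_le le_rfl (Submodule.span_le.mpr hne)))
      omega
    have hx0 : x ≠ 0 := fun h => hxS (h ▸ zero_mem _)
    have hd : finrank K ↥(S ⊔ K ∙ x) = finrank K S + 1 := by
      have h := Submodule.finrank_sup_add_finrank_inf_eq S (K ∙ x)
      rw [finrank_span_singleton hx0, ((Submodule.disjoint_span_singleton' hx0).mpr hxS).eq_bot,
        finrank_bot] at h
      omega
    obtain ⟨v, hv, hvT⟩ := ih (S := S ⊔ K ∙ x)
      (sup_le hST (by rw [Submodule.span_singleton_le_iff_mem]; exact hSp hx))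
      (hspan.trans (sup_le_sup_right le_sup_left _)) (by omega)
    refine ⟨Fin.cons x v, fun y => Fin.cases hx hv y, ?_⟩
    rw [Fin.range_cons, Submodule.span_insert, ← sup_assoc, hvT]

/-- how a linear map may carry one linear family to another -/
def Step (f : E →ₗ[K] E) (a0 a1 b0 b1 : E) : Prop :=
  (f a0 = 0 ∧ f a1 = 0) ∨ (f a0 = b0 ∧ f a1 = b1) ∨ (f a0 = 0 ∧ f a1 = b0 ∧ b1 = 0)

variable (F G n) in
/-- a linear family of linked tuples whose general member is generated by one frame -/
structure Curve {ι : Type*} (lev : ι → ℕ) (w0 w1 : ℕ → ι → E) (e0 e1 : ι → E) : Prop where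
  lev_le : ∀ x, lev x ≤ n
  stepF : ∀ i, i < n → ∀ x, Step (F i) (w0 i x) (w1 i x) (w0 (i + 1) x) (w1 (i + 1) x)
  stepG : ∀ i, i < n → ∀ x, Step (G i) (w0 (i + 1) x) (w1 (i + 1) x) (w0 i x) (w1 i x)
  gen : ∀ i, i ≤ n → ∀ x,
    (phi F G (lev x) i (e0 x) = w0 i x ∧ phi F G (lev x) i (e1 x) = w1 i x) ∨
    (phi F G (lev x) i (e0 x) = 0 ∧ phi F G (lev x) i (e1 x) = w0 i x ∧ w1 i x = 0)

omit [FiniteDimensional K E] in
theorem step_phi_F (h : Hyp F G n) {j i : ℕ} (hi : i < n) (a b : E) :
    Step (F i) (phi F G j i a) (phi F G j i b) (phi F G j (i + 1) a) (phi F G j (i + 1) b) := by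
  rw [Step, F_phi h.rel hi, F_phi h.rel hi]
  split_ifs <;> simp

omit [FiniteDimensional K E] in
theorem step_phi_G (h : Hyp F G n) {j i : ℕ} (hi : i < n) (a b : E) :
    Step (G i) (phi F G j (i + 1) a) (phi F G j (i + 1) b) (phi F G j i a) (phi F G j i b) := by
  rw [Step, G_phi h.rel hi, G_phi h.rel hi]
  split_ifs <;> simp

omit [FiniteDimensional K E] in
theorem step_pairA (h : Hyp F G n) {j : ℕ} {u u' z : E} (hu : F j u = 0) (hu' : G j u' = 0)
    (hz : G j z = u) {i : ℕ} (hi : i < n) :
    let w0 := fun i => if i ≤ j then phi F G j i u else phi F G (j + 1) i u'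
    let w1 := fun i => if i ≤ j then 0 else phi F G (j + 1) i z
    Step (F i) (w0 i) (w1 i) (w0 (i + 1)) (w1 (i + 1)) ∧
      Step (G i) (w0 (i + 1)) (w1 (i + 1)) (w0 i) (w1 i) := by
  intro w0 w1
  rcases lt_trichotomy i j with hlt | rfl | hgt
  · simp only [w0, w1, if_pos hlt.le, if_pos (show i + 1 ≤ j by omega)]
    refine ⟨?_, ?_⟩
    · left; rw [F_phi h.rel hi, if_neg (by omega), zero_smul]; simp
    · right; left; rw [G_phi h.rel hi, if_neg (by omega), one_smul]; simp
  · simp only [w0, w1, le_refl, if_true, if_neg (show ¬ i + 1 ≤ i by omega), phi_self,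
      LinearMap.id_apply]
    exact ⟨Or.inl ⟨hu, map_zero _⟩, Or.inr (Or.inr ⟨hu', hz, rfl⟩)⟩
  · simp only [w0, w1, if_neg (show ¬ i ≤ j by omega), if_neg (show ¬ i + 1 ≤ j by omega)]
    exact ⟨step_phi_F h hi _ _, step_phi_G h hi _ _⟩

omit [FiniteDimensional K E] in
theorem step_pairB (h : Hyp F G n) {j : ℕ} {u u' z : E} (hu : F j u = 0) (hu' : G j u' = 0)
    (hz : F j z = u') {i : ℕ} (hi : i < n) :
    let w0 := fun i => if i ≤ j then phi F G j i u else phi F G (j + 1) i u'
    let w1 := fun i => if i ≤ j then phi F G j i z else 0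
    Step (F i) (w0 i) (w1 i) (w0 (i + 1)) (w1 (i + 1)) ∧
      Step (G i) (w0 (i + 1)) (w1 (i + 1)) (w0 i) (w1 i) := by
  intro w0 w1
  rcases lt_trichotomy i j with hlt | rfl | hgt
  · simp only [w0, w1, if_pos hlt.le, if_pos (show i + 1 ≤ j by omega)]
    exact ⟨step_phi_F h hi _ _, step_phi_G h hi _ _⟩
  · simp only [w0, w1, le_refl, if_true, if_neg (show ¬ i + 1 ≤ i by omega), phi_self,
      LinearMap.id_apply]
    exact ⟨Or.inr (Or.inr ⟨hu, hz, rfl⟩), Or.inl ⟨hu', map_zero _⟩⟩
  · simp only [w0, w1, if_neg (show ¬ i ≤ j by omega), if_neg (show ¬ i + 1 ≤ j by omega)]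
    refine ⟨?_, ?_⟩
    · right; left; rw [F_phi h.rel hi, if_pos (by omega), one_smul]; simp
    · left; rw [G_phi h.rel hi, if_pos (by omega), zero_smul]; simp

/-- generated tuples: the ranks of the maps are counted by the levels -/
theorem finrank_map_F_of_gen (h : Hyp F G n) {ι : Type*} [Fintype ι] (hcard : Fintype.card ι = r)
    (hr : ∀ i, i ≤ n → finrank K (V i) = r) (lev : ι → ℕ) (e : ι → E)
    (hgen : ∀ i, i ≤ n → V i = Submodule.span K (Set.range fun x => phi F G (lev x) i (e x)))
    {i : ℕ} (hi : i < n) :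
    finrank K ((V i).map (F i)) = Fintype.card {x // lev x ≤ i} ∧
      finrank K ((V (i + 1)).map (G i)) = Fintype.card {x // ¬ lev x ≤ i} := by
  classical
  have hli : ∀ i, i ≤ n → LinearIndependent K (fun x => phi F G (lev x) i (e x)) := fun i hi =>
    linearIndependent_iff_card_eq_finrank_span.mpr (by
      rw [hcard, Set.finrank, ← hgen i hi, hr i hi])
  constructor
  · rw [hgen i hi.le, Submodule.map_span, ← Set.range_comp]
    rw [← finrank_span_eq_card ((hli (i + 1) hi).comp (Subtype.val : {x // lev x ≤ i} → ι)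
      Subtype.val_injective)]
    refine (congrArg (fun S : Submodule K E => finrank K S) ?_)
    refine le_antisymm (Submodule.span_le.mpr ?_) (Submodule.span_le.mpr ?_)
    · rintro _ ⟨x, rfl⟩
      simp only [Function.comp_apply, F_phi h.rel hi]
      split_ifs with hx
      · rw [one_smul]; exact Submodule.subset_span ⟨⟨x, hx⟩, rfl⟩
      · rw [zero_smul]; exact zero_mem _
    · rintro _ ⟨⟨x, hx⟩, rfl⟩
      exact Submodule.subset_span ⟨x, by simp [F_phi h.rel hi, hx]⟩
  · rw [hgen (i + 1) hi, Submodule.map_span, ← Set.range_comp]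
    rw [← finrank_span_eq_card ((hli i hi.le).comp (Subtype.val : {x // ¬ lev x ≤ i} → ι)
      Subtype.val_injective)]
    refine (congrArg (fun S : Submodule K E => finrank K S) ?_)
    refine le_antisymm (Submodule.span_le.mpr ?_) (Submodule.span_le.mpr ?_)
    · rintro _ ⟨x, rfl⟩
      simp only [Function.comp_apply, G_phi h.rel hi]
      split_ifs with hx
      · rw [zero_smul]; exact zero_mem _
      · rw [one_smul]; exact Submodule.subset_span ⟨⟨x, hx⟩, rfl⟩
    · rintro _ ⟨⟨x, hx⟩, rfl⟩
      exact Submodule.subset_span ⟨x, by simp [G_phi h.rel hi, hx]⟩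

theorem exact_of_gen (h : Hyp F G n) {ι : Type*} [Fintype ι] (hcard : Fintype.card ι = r)
    (hV : Linked F G n V) (hr : ∀ i, i ≤ n → finrank K (V i) = r) (lev : ι → ℕ) (e : ι → E)
    (hgen : ∀ i, i ≤ n → V i = Submodule.span K (Set.range fun x => phi F G (lev x) i (e x))) :
    Exact F G n V := by
  classical
  refine (h.exact_iff hV hr).mpr fun i hi => ?_
  obtain ⟨h1, h2⟩ := finrank_map_F_of_gen h hcard hr lev e hgen hi
  rw [h1, h2, Fintype.card_subtype_compl]
  have := Fintype.card_subtype_le (fun x => lev x ≤ i)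
  omega

/-- frame of a tuple when the scalar is invertible -/
theorem exists_frame_of_ne_zero {s : K} (h : Rel F G s n) (hs : s ≠ 0) (hV : Linked F G n V)
    (hr : ∀ i, i ≤ n → finrank K (V i) = r) {Sp : Set E} (hSp : Sp ⊆ V 0)
    (hspan : V 0 ≤ Submodule.span K Sp) :
    ∃ e : Fin r → E, (∀ x, e x ∈ Sp) ∧
      ∀ i, i ≤ n → V i = Submodule.span K (Set.range fun x => phi F G 0 i (e x)) := by
  obtain ⟨e, he, he0⟩ := exists_completion (S := ⊥) (T := V 0) bot_le hSp
    (by rwa [bot_sup_eq]) (m := r) (by rw [finrank_bot, zero_add, hr 0 n.zero_le])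
  rw [bot_sup_eq] at he0
  refine ⟨e, he, fun i hi => ?_⟩
  induction i with
  | zero => simpa using he0.symm
  | succ i ih =>
    have hinj : Function.Injective (F i) := fun a b hab => by
      have := congrArg (G i) hab
      rw [(rel_apply h hi a).2, (rel_apply h hi b).2] at this
      exact smul_right_injective E hs this
    have h1 : (V i).map (F i) = V (i + 1) := by
      refine Submodule.eq_of_le_of_finrank_eq (hV i hi).1 ?_
      rw [← (Submodule.equivMapOfInjective (F i) hinj (V i)).finrank_eq, hr i (by omega), hr (i + 1) hi]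
    rw [← h1, ih (by omega), Submodule.map_span, ← Set.range_comp]
    congr 2
    funext x
    simp [phi_succ F G (Nat.zero_le i)]

end Groth.Agent.LG29
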