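import Groth.Agent.Lib.LG29.Transfer
import Groth.Agent.Lib.LG29.Dim
import Groth.Agent.Lib.LG29.Construct

/-!
Linked Grassmannians over a field.
-/

set_option autoImplicit false
set_option backward.isDefEq.respectTransparency false
universe u

open TensorProduct Module CategoryTheory Limits AlgebraicGeometry

namespace Groth.Agent.LG29

open GrassLib

variable {k : Type u} [Field k] {d r n : ℕ}

theorem finrank_range_self (h : (Fin d → k) →ₗ[k] (Fin d → k)) :
    finrank k (LinearMap.range (h.baseChange k)) = finrank k (LinearMap.range h) :=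
  finrank_range_baseChange h k

theorem fibHyp_of_field {f g : Fin n → ((Fin d → k) →ₗ[k] (Fin d → k))} {s : k}
    (hI : ∀ i, (f i).comp (g i) = s • LinearMap.id ∧ (g i).comp (f i) = s • LinearMap.id)
    (hII : ∀ i, d ≤ finrank k (LinearMap.range (f i)) + finrank k (LinearMap.range (g i)))
    (hIII : ∀ i j : Fin n, i.val + 1 = j.val →
      LinearMap.range (f i) ⊓ LinearMap.ker (f j) = ⊥ ∧
        LinearMap.range (g j) ⊓ LinearMap.ker (g i) = ⊥) :
    FibHyp (extend f) (extend g) s n := by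
  intro K _ _ hs
  have hd : ∀ a b : (Fin d → k) →ₗ[k] (Fin d → k), LinearMap.range a ⊓ LinearMap.ker b = ⊥ →
      LinearMap.range (a.baseChange k) ⊓ LinearMap.ker (b.baseChange k) = ⊥ := fun a b h => by
    rw [← disjoint_iff, disjoint_iff_finrank, ← LinearMap.baseChange_comp, finrank_range_self,
      finrank_range_self, ← disjoint_iff_finrank, disjoint_iff]
    exact h
  refine hyp_of_residue (rel_extend f g hI) (P := k) K hs (fun i hi => ?_) (fun i hi => ?_)
  · rw [bc_extend f _ ⟨i, hi⟩, bc_extend g _ ⟨i, hi⟩, finrank_range_self, finrank_range_self]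
    exact hII ⟨i, hi⟩
  · rw [bc_extend f _ ⟨i, by omega⟩, bc_extend f _ ⟨i + 1, hi⟩, bc_extend g _ ⟨i, by omega⟩,
      bc_extend g _ ⟨i + 1, hi⟩]
    obtain ⟨h1, h2⟩ := hIII ⟨i, by omega⟩ ⟨i + 1, hi⟩ rfl
    exact ⟨hd _ _ h1, hd _ _ h2⟩

/-- splitting of the standard index set -/
noncomputable def splitEquiv {d r : ℕ} (h : r ≤ d) : Fin d ≃ Fin r ⊕ Fin (d - r) :=
  (finCongr (Nat.add_sub_cancel' h).symm).trans finSumFinEquiv.symm

theorem image_closedPoint_eq {K : Type u} [Field K] {X : Scheme.{u}} (x : Spec (CommRingCat.of K) ⟶ X) :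
    Set.range x.base = {x (IsLocalRing.closedPoint K)} := by
  refine Set.eq_singleton_iff_unique_mem.mpr ⟨⟨_, rfl⟩, ?_⟩
  rintro _ ⟨z, rfl⟩
  haveI : Subsingleton (PrimeSpectrum K) := inferInstance
  rw [Subsingleton.elim z (IsLocalRing.closedPoint K : PrimeSpectrum K)]

theorem lft_of_srep {f g : Fin n → ((Fin d → k) →ₗ[k] (Fin d → k))}
    {X : Over (Spec (CommRingCat.of k))}
    (hX : SRep k (Fin d → k) (d - r) (n + 1) (fun A => W4c1limliniiii.LGPoints k d r n f g A) X) :
    IsProper X.hom := by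
  obtain ⟨X', hX', ⟨hR⟩⟩ := exists_linkedGrassmannian (R := k) d r n f g
  exact hX.isProper_of hR

end Groth.Agent.LG29
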