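import Groth.Agent.Lib.LG29.Join

/-!
Linked Grassmannians with nonzero scalar are nonempty.
-/

set_option autoImplicit false
set_option backward.isDefEq.respectTransparency false
universe u

open TensorProduct Module CategoryTheory Limits AlgebraicGeometry

namespace Groth.Agent.LG29

open GrassLib

variable {R : Type u} [CommRing R] {M : Type u} [AddCommGroup M] [Module R M] {d r k n : ℕ}
variable (F G : ℕ → M →ₗ[R] M)
variable {S : ∀ (A : Type u) [CommRing A] [Algebra R A], Set (Fin (n + 1) → Pt R M k A)}
variable {X : Over (Spec (CommRingCat.of R))}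

theorem nonempty_of_ne_zero (bM : Basis (Fin d) R M) (σ : Fin d ≃ Fin r ⊕ Fin k)
    (hX : SRep R M k (n + 1) S X) {s : R} (hrel : Rel F G s n)
    (hS : ∀ (A : Type u) [CommRing A] [Algebra R A] (N : Fin (n + 1) → Pt R M k A),
      N ∈ S A ↔ LinkedT F G N)
    {K : Type u} [Field K] [Algebra R K] (hs : algebraMap R K s ≠ 0) : Nonempty X.left := by
  haveI : Module.Finite K (K ⊗[R] M) := Module.Finite.of_basis (bM.baseChange K)
  have hinjF : ∀ i, i < n → Function.Injective (bc K F i) := fun i hi a b hab => by
    have := congrArg (bc K G i) hab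
    rw [(rel_apply (rel_bc K hrel) hi a).2, (rel_apply (rel_bc K hrel) hi b).2] at this
    exact smul_right_injective _ hs this
  have hphi : ∀ i, i ≤ n → Function.Injective (phi (bc K F) (bc K G) 0 i) := by
    intro i hi
    induction i with
    | zero => simpa using Function.injective_id
    | succ i ih =>
      rw [phi_succ _ _ (Nat.zero_le i), LinearMap.coe_comp]
      exact (hinjF i hi).comp (ih (by omega))
  let u : ℕ → Fin r → K ⊗[R] M := fun i t =>
    phi (bc K F) (bc K G) 0 i ((1 : K) ⊗ₜ[R] bM (σ.symm (Sum.inl t)))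
  have hli : ∀ i, i ≤ n → LinearIndependent K (u i) := by
    intro i hi
    refine LinearIndependent.map' ?_ _ (LinearMap.ker_eq_bot.mpr (hphi i hi))
    have := ((bM.baseChange K).reindex σ).linearIndependent.comp Sum.inl Sum.inl_injective
    simpa [Function.comp_def] using this
  have hsplit : ∀ i : Fin (n + 1), ∃ x : Fin k → M, IsUnit (splitDet bM σ x (u i)) := by
    intro i
    have hd : d = r + k := by simpa using Fintype.card_congr σ
    have hE : finrank K (K ⊗[R] M) = d := by
      rw [Module.finrank_eq_card_basis (bM.baseChange K), Fintype.card_fin]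
    obtain ⟨v, hv, hvtop⟩ := exists_completion (S := Submodule.span K (Set.range (u i))) (T := ⊤) le_top
      (Set.subset_univ (Set.range fun a => (1 : K) ⊗ₜ[R] bM a))
      (le_trans (le_of_eq (by rw [← (bM.baseChange K).span_eq]; congr 2; ext a; simp)) le_sup_right)
      (m := k) (by
        rw [finrank_top, hE, finrank_span_eq_card (hli i (Nat.le_of_lt_succ i.2)), Fintype.card_fin]
        omega)
    choose a ha using hv
    refine ⟨fun j => bM (a j), ?_⟩
    rw [splitDet, ← Basis.is_basis_iff_det]
    have e : (fun j => (1 : K) ⊗ₜ[R] bM (a j)) = v := funext ha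
    have htop : ⊤ ≤ Submodule.span K (Set.range (Sum.elim (u i) fun j => (1 : K) ⊗ₜ[R] bM (a j))) := by
      rw [Set.Sum.elim_range, Submodule.span_union, e, hvtop]
    exact ⟨linearIndependent_of_top_le_span_of_card_eq_finrank htop (by
      rw [hE, ← Fintype.card_congr σ, Fintype.card_fin]), top_le_iff.mp htop⟩
  choose x hx using hsplit
  choose N hN using fun i => exists_point_of_split bM σ (hx i)
  have hl : LinkedT F G N := by
    intro i hi
    rw [subs_val N ⟨i, by omega⟩, subs_val N ⟨i + 1, by omega⟩, hN, hN]
    exact linked_span_phi (rel_bc K hrel) (fun _ : Fin r => 0)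
      (fun t => (1 : K) ⊗ₜ[R] bM (σ.symm (Sum.inl t))) i hi
  exact ⟨hX.mor N ((hS K N).mpr hl) (IsLocalRing.closedPoint K)⟩

end Groth.Agent.LG29
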