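import Groth.Agent.Lib.LG29.Field
import Groth.Agent.Lib.LG29.Rep

/-!
From the stated hypotheses to the working ones.
-/

set_option autoImplicit false
set_option backward.isDefEq.respectTransparency false
universe u

open TensorProduct Module

namespace Groth.Agent.LG29

open GrassLib

variable {R : Type u} [CommRing R]

theorem finrank_range_baseChange {P : Type u} [Field P] {E E' : Type u} [AddCommGroup E] [Module P E]
    [AddCommGroup E'] [Module P E'] [Module.Finite P E] (f : E →ₗ[P] E') (K : Type u) [Field K]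
    [Algebra P K] :
    finrank K (LinearMap.range (f.baseChange K)) = finrank P (LinearMap.range f) := by
  have h : f.baseChange K = (LinearMap.range f).subtype.baseChange K ∘ₗ f.rangeRestrict.baseChange K := by
    rw [← LinearMap.baseChange_comp, LinearMap.subtype_comp_codRestrict]
  have hinj : Function.Injective ((LinearMap.range f).subtype.baseChange K) :=
    Module.Flat.lTensor_preserves_injective_linearMap (M := K)
      (LinearMap.range f).subtype (Submodule.injective_subtype _)
  rw [h, LinearMap.range_comp,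
    LinearMap.range_eq_top.mpr (LinearMap.baseChange_surjective K f.surjective_rangeRestrict),
    Submodule.map_top, ← (LinearEquiv.ofInjective _ hinj).finrank_eq, Module.finrank_baseChange]

theorem finrank_range_bc {M : Type u} [AddCommGroup M] [Module R M] [Module.Finite R M]
    (H : M →ₗ[R] M) {P : Type u} [Field P] [Algebra R P] (K : Type u) [Field K] [Algebra R K]
    [Algebra P K] [IsScalarTower R P K] :
    finrank K (LinearMap.range (H.baseChange K)) = finrank P (LinearMap.range (H.baseChange P)) := by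
  let e := AlgebraTensorModule.cancelBaseChange R P K K M
  have he : H.baseChange K = e.toLinearMap ∘ₗ (H.baseChange P).baseChange K ∘ₗ e.symm.toLinearMap := by
    refine TensorProduct.AlgebraTensorModule.ext fun a m => ?_
    simp [e]
  rw [he, LinearMap.range_comp, LinearMap.range_comp, LinearEquiv.range, Submodule.map_top,
    LinearEquiv.finrank_map_eq e]
  exact finrank_range_baseChange (H.baseChange P) K

theorem disjoint_iff_finrank {P E : Type u} [Field P] [AddCommGroup E] [Module P E] [Module.Finite P E]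
    (f g : E →ₗ[P] E) : Disjoint (LinearMap.range f) (LinearMap.ker g) ↔
      finrank P (LinearMap.range (g ∘ₗ f)) = finrank P (LinearMap.range f) := by
  have h := finrank_map_add_ker g (LinearMap.range f)
  rw [← LinearMap.range_comp] at h
  rw [disjoint_iff, ← Submodule.finrank_eq_zero, inf_comm]
  omega

theorem hyp_of_residue {d n : ℕ} {F G : ℕ → (Fin d → R) →ₗ[R] (Fin d → R)} {s : R}
    (hrel : Rel F G s n) {P : Type u} [Field P] [Algebra R P] (K : Type u) [Field K] [Algebra R K]
    [Algebra P K] [IsScalarTower R P K] (hsK : algebraMap R K s = 0)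
    (hII : ∀ i, i < n → d ≤ finrank P (LinearMap.range (bc P F i)) + finrank P (LinearMap.range (bc P G i)))
    (hIII : ∀ i, i + 1 < n → LinearMap.range (bc P F i) ⊓ LinearMap.ker (bc P F (i + 1)) = ⊥ ∧
      LinearMap.range (bc P G (i + 1)) ⊓ LinearMap.ker (bc P G i) = ⊥) :
    Hyp (bc K F) (bc K G) n := by
  have hdim : finrank K (K ⊗[R] (Fin d → R)) = d := by
    rw [Module.finrank_eq_card_basis ((Pi.basisFun R (Fin d)).baseChange K), Fintype.card_fin]
  have hrelK : Rel (bc K F) (bc K G) (0 : K) n := hsK ▸ rel_bc K hrel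
  have hrk : ∀ (F : ℕ → (Fin d → R) →ₗ[R] (Fin d → R)) i,
      finrank K (LinearMap.range (bc K F i)) = finrank P (LinearMap.range (bc P F i)) :=
    fun F i => finrank_range_bc (F i) K
  have hdisj : ∀ (F : ℕ → (Fin d → R) →ₗ[R] (Fin d → R)) i j,
      LinearMap.range (bc P F i) ⊓ LinearMap.ker (bc P F j) = ⊥ →
        Disjoint (LinearMap.range (bc K F i)) (LinearMap.ker (bc K F j)) := by
    intro F i j h
    have h' := (disjoint_iff_finrank _ _).mp (disjoint_iff.mpr h)
    refine (disjoint_iff_finrank _ _).mpr ?_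
    rw [hrk, bc, bc, ← LinearMap.baseChange_comp, finrank_range_bc (F j ∘ₗ F i) (P := P) K,
      LinearMap.baseChange_comp]
    exact h'
  refine ⟨hrelK, fun i hi => ?_, fun i hi => ?_, fun i hi => hdisj F i (i + 1) (hIII i hi).1,
    fun i hi => hdisj G (i + 1) i (hIII i hi).2⟩
  · have h1 : LinearMap.range (bc K G i) ≤ LinearMap.ker (bc K F i) := by
      rintro _ ⟨v, rfl⟩
      simpa using (hrelK i hi).1 v
    have h2 := LinearMap.finrank_range_add_finrank_ker (bc K F i)
    have := hII i hi
    rw [← hrk F, ← hrk G] at this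
    exact (Submodule.eq_of_le_of_finrank_le h1 (by omega)).symm
  · have h1 : LinearMap.range (bc K F i) ≤ LinearMap.ker (bc K G i) := by
      rintro _ ⟨v, rfl⟩
      simpa using (hrelK i hi).2 v
    have h2 := LinearMap.finrank_range_add_finrank_ker (bc K G i)
    have := hII i hi
    rw [← hrk F, ← hrk G] at this
    exact (Submodule.eq_of_le_of_finrank_le h1 (by omega)).symm

variable {d r n : ℕ} (f g : Fin n → (Fin d → R) →ₗ[R] (Fin d → R))

theorem rel_extend {s : R}
    (hI : ∀ i, (f i).comp (g i) = s • LinearMap.id ∧ (g i).comp (f i) = s • LinearMap.id) :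
    Rel (extend f) (extend g) s n := by
  intro i hi
  have e1 : extend f i = f ⟨i, hi⟩ := dif_pos hi
  have e2 : extend g i = g ⟨i, hi⟩ := dif_pos hi
  rw [e1, e2]
  exact ⟨fun v => LinearMap.congr_fun (hI ⟨i, hi⟩).1 v, fun v => LinearMap.congr_fun (hI ⟨i, hi⟩).2 v⟩

theorem bc_extend (A : Type u) [CommRing A] [Algebra R A] (i : Fin n) :
    bc A (extend f) i = (f i).baseChange A := by
  simp [bc, extend_val]

theorem mem_LGPoints_iff (A : Type u) [CommRing A] [Algebra R A]
    (N : Fin (n + 1) → Pt R (Fin d → R) (d - r) A) :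
    N ∈ W4c1limliniiii.LGPoints R d r n f g A ↔ LinkedT (extend f) (extend g) N := by
  constructor
  · intro h i hi
    obtain ⟨h1, h2⟩ := h ⟨i, hi⟩
    rw [← bc_extend f A, ← subs_val N, ← subs_val N] at h1
    rw [← bc_extend g A, ← subs_val N, ← subs_val N] at h2
    exact ⟨h1, h2⟩
  · intro h i
    obtain ⟨h1, h2⟩ := h i i.2
    rw [← bc_extend f A, ← bc_extend g A, ← subs_val N, ← subs_val N]
    exact ⟨h1, h2⟩

theorem isExact_iff (A : Type u) [Field A] [Algebra R A]
    (N : Fin (n + 1) → Pt R (Fin d → R) (d - r) A) :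
    W4c1limliniiii.IsExact R d r n f g A N ↔
      Exact (bc A (extend f)) (bc A (extend g)) n (subs N) := by
  constructor
  · intro h i hi
    obtain ⟨h1, h2⟩ := h ⟨i, hi⟩
    rw [← bc_extend f A, ← bc_extend g A, ← subs_val N, ← subs_val N] at h1 h2
    exact ⟨h1, h2⟩
  · intro h i
    obtain ⟨h1, h2⟩ := h i i.2
    rw [← bc_extend f A, ← bc_extend g A, ← subs_val N, ← subs_val N]
    exact ⟨h1, h2⟩

theorem fibHyp_of_residue {s : R}
    (hI : ∀ i, (f i).comp (g i) = s • LinearMap.id ∧ (g i).comp (f i) = s • LinearMap.id)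
    (hII : ∀ (P : Ideal R) [P.IsPrime], ∀ i,
      d ≤ finrank P.ResidueField (LinearMap.range ((f i).baseChange P.ResidueField)) +
        finrank P.ResidueField (LinearMap.range ((g i).baseChange P.ResidueField)))
    (hIII : ∀ (P : Ideal R) [P.IsPrime], ∀ i j : Fin n, i.val + 1 = j.val →
      LinearMap.range ((f i).baseChange P.ResidueField) ⊓
          LinearMap.ker ((f j).baseChange P.ResidueField) = ⊥ ∧
        LinearMap.range ((g j).baseChange P.ResidueField) ⊓
          LinearMap.ker ((g i).baseChange P.ResidueField) = ⊥) :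
    FibHyp (extend f) (extend g) s n := by
  intro K _ _ hs
  let P : Ideal R := RingHom.ker (algebraMap R K)
  haveI : P.IsPrime := RingHom.ker_isPrime _
  let χ : P.ResidueField →ₐ[R] K := Ideal.ResidueField.liftₐ P (Algebra.ofId R K) le_rfl
    (fun x hx => isUnit_iff_ne_zero.mpr hx)
  letI : Algebra P.ResidueField K := χ.toAlgebra
  haveI : IsScalarTower R P.ResidueField K := IsScalarTower.of_algebraMap_eq' χ.comp_algebraMap.symm
  refine hyp_of_residue (rel_extend f g hI) (P := P.ResidueField) K hs (fun i hi => ?_) (fun i hi => ?_)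
  · rw [bc_extend f _ ⟨i, hi⟩, bc_extend g _ ⟨i, hi⟩]
    exact hII P ⟨i, hi⟩
  · rw [bc_extend f _ ⟨i, by omega⟩, bc_extend f _ ⟨i + 1, hi⟩, bc_extend g _ ⟨i, by omega⟩,
      bc_extend g _ ⟨i + 1, hi⟩]
    exact hIII P ⟨i, by omega⟩ ⟨i + 1, hi⟩ rfl

end Groth.Agent.LG29
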